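import Cfsg.Agent.N2.Cl.TenSO.EltU
import Cfsg.Agent.N2.Cl.FrSp.Sing

/-!
# N2 (S3519), tensor decompositions: semisimple elements of a factor (helper89)
-/

set_option autoImplicit false
set_option linter.unusedSectionVars false
set_option maxHeartbeats 400000

namespace Cfsg.Agent.N2C.TenSO.ES

open Cfsg.Agent.DS.Cl Cfsg.Agent.DS.Cl.Fwd Module Submodule Polynomial
open Cfsg.Agent.SB.Cl (IsSp)
open Cfsg.Agent.TH.Cl (IsSp.swap)
open Cfsg.Agent.TH.Cl.Big (b_swap_zero)
open Cfsg.Agent.N2.C1 hiding rg_step exists_rg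
open Cfsg.Agent.N2C.Cyc
open Cfsg.Agent.LieClassical

variable {K V : Type} [Field K] [Fintype K] [AddCommGroup V] [Module K V] [Finite V] {h : HF K V}
  {P : Type} [AddCommGroup P] [Module K P] [Finite P]

theorem card_End (K V : Type) [Field K] [Fintype K] [AddCommGroup V] [Module K V] [Finite V] :
    Nat.card (End K V) = Fintype.card K ^ finrank K V ^ 2 := by
  have : Module.Finite K V := Module.Finite.of_finite
  have : Finite (End K V) := Finite.of_injective (fun a : End K V => (a : V → V)) DFunLike.coe_injective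
  rw [card_V K (End K V), finrank_linearMap, pow_two]

theorem el_mk {g : h.EBˣ} {N d : ℕ} (h1 : g ∈ Sq h.EB) (h2 : g ^ N = 1) (h3 : cA (g : h.EB) ≤ Fintype.card K ^ d)
    (h4 : d < finrank K V ^ 2) : El h g N d := by
  refine ⟨h1, h2, fun k => ?_, h3⟩
  rw [show cA (g : h.EB) = _ from (Nat.card_congr (Equiv.subtypeUnivEquiv (Subring.mem_center_iff.1 k))).trans
    (card_End K V)] at h3
  exact h4.not_ge ((Nat.pow_le_pow_iff_right Fintype.one_lt_card).1 h3)

variable (h P) in
/-- coordinates on an orthogonal summand -/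
structure Pl where
  /-- the embedding -/
  ι : P →ₗ[K] V
  /-- the projection -/
  π : V →ₗ[K] P
  πι : ∀ x, π (ι x) = x
  b : ∀ x v, π v = 0 → h.b (ι x) v = 0

namespace Pl

variable (p : Pl h P) {g : End K P}

/-- extension by the identity -/
def ex : End K P →* h.EB where
  toFun g := h.eb (1 + p.ι ∘ₗ (g - 1) ∘ₗ p.π)
  map_one' := h.ap_ext fun v => by simp [h.ap_eb, h.ap_one]
  map_mul' g g' := h.ap_ext fun v => by
    simp [h.ap_eb, h.ap_mul, p.πι]
    abel

theorem ap_ex (g : End K P) (v : V) : h.ap (p.ex g) v = v - p.ι (p.π v) + p.ι (g (p.π v)) := by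
  change v + p.ι (g (p.π v) - p.π v) = _
  rw [map_sub]
  abel

theorem ap_ι (g : End K P) (x : P) : h.ap (p.ex g) (p.ι x) = p.ι (g x) := by rw [ap_ex, p.πι, sub_self, zero_add]

theorem π_ap (g : End K P) (v : V) : p.π (h.ap (p.ex g) v) = g (p.π v) := by
  rw [ap_ex, map_add, map_sub, p.πι, p.πι, sub_self, zero_add]

theorem π_sub (v : V) : p.π (v - p.ι (p.π v)) = 0 := by rw [map_sub, p.πι, sub_self]

/-- isometries of the summand -/
def Is (g : End K P) : Prop := ∀ x y, h.b (p.ι (g x)) (p.ι (g y)) = h.b (p.ι x) (p.ι y)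

theorem iso (hg : p.Is g) (v w : V) : h.b (h.ap (p.ex g) v) (h.ap (p.ex g) w) = h.b v w := by
  have k : ∀ x y, h.b (v - p.ι (p.π v) + p.ι x) (w - p.ι (p.π w) + p.ι y) =
      h.b (v - p.ι (p.π v)) (w - p.ι (p.π w)) + h.b (p.ι x) (p.ι y) := fun x y => by
    rw [h.add_left, h.add_right, h.add_right, p.b _ _ (p.π_sub w), b_swap_zero (p.b _ _ (p.π_sub v)), add_zero, zero_add]
  rw [ap_ex, ap_ex, k, hg, ← k, sub_add_cancel, sub_add_cancel]

/-- the unit -/
noncomputable def un (hg : p.Is g) : h.EBˣ := SB.Tor.isoU h (p.ex g) (p.iso hg)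

theorem un_ms (hg : p.Is g) : (p.un hg : h.EB) * star (p.un hg : h.EB) = 1 := SB.Tor.isoU_ms _ _ _

theorem un_pow (hg : p.Is g) {N : ℕ} (hN : g ^ N = 1) : p.un hg ^ N = 1 :=
  Units.ext ((Units.val_pow_eq_pow_val _ _).trans ((map_pow p.ex g N).symm.trans (hN ▸ map_one p.ex)))

theorem cA_le (hg : Function.Injective (g - 1 : End K P)) {d : ℕ}
    (hd : Nat.card {y : End K P // y * g = g * y} ≤ Fintype.card K ^ d) :
    cA (p.ex g) ≤ Fintype.card K ^ ((finrank K V - finrank K P) ^ 2 + d) := by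
  have : Module.Finite K V := Module.Finite.of_finite
  have : Finite (End K P) := Finite.of_injective (fun a : End K P => (a : P → P)) DFunLike.coe_injective
  have : Finite (End K (LinearMap.ker p.π)) := Finite.of_injective (fun a : End K _ => (a : _ → _)) DFunLike.coe_injective
  have c : ∀ (x : {x : h.EB // x * p.ex g = p.ex g * x}) v, h.ap x.1 (h.ap (p.ex g) v) = h.ap (p.ex g) (h.ap x.1 v) :=
    fun x v => by rw [← h.ap_mul, x.2, h.ap_mul]
  have h1 : ∀ x : {x : h.EB // x * p.ex g = p.ex g * x}, ∀ v ∈ LinearMap.ker p.π, h.ap x.1 v ∈ LinearMap.ker p.π :=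
    fun x v (hv : p.π v = 0) => hg (by
      have k := congrArg p.π (c x v)
      rw [π_ap, ap_ex, hv, map_zero g, map_zero, sub_zero, add_zero] at k
      rw [map_zero, LinearMap.sub_apply, ← k, End.one_apply, sub_self])
  have h2 : ∀ (x : {x : h.EB // x * p.ex g = p.ex g * x}) y, h.ap x.1 (p.ι y) = p.ι (p.π (h.ap x.1 (p.ι y))) := fun x y => by
    obtain ⟨y, rfl⟩ := Finite.injective_iff_surjective.1 hg y
    have k : h.ap x.1 (p.ι ((g - 1) y)) = p.ι (g (p.π (h.ap x.1 (p.ι y))) - p.π (h.ap x.1 (p.ι y))) := by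
      rw [LinearMap.sub_apply, End.one_apply, map_sub, map_sub, ← ap_ι, c, ap_ex, map_sub]
      abel
    rw [k, p.πι]
  have h3 : finrank K (LinearMap.ker p.π) = finrank K V - finrank K P := by
    have := p.π.finrank_range_add_finrank_ker
    rw [LinearMap.range_eq_top.2 fun x => ⟨_, p.πι x⟩, finrank_top] at this
    omega
  refine (Nat.card_le_card_of_injective (fun x => (((h.ap x.1).restrict (h1 x), ⟨p.π ∘ₗ h.ap x.1 ∘ₗ p.ι,
    LinearMap.ext fun y => (congrArg (fun z => p.π (h.ap x.1 z)) (p.ap_ι g y).symm).trans ((congrArg p.π (c x _)).trans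
    (p.π_ap _ _))⟩) : End K (LinearMap.ker p.π) × {y : End K P // y * g = g * y})) fun x x' k =>
    Subtype.ext (h.ap_ext fun v => ?_)).trans ?_
  · rw [← sub_add_cancel v (p.ι (p.π v)), map_add, map_add, h2, h2 x']
    exact congrArg₂ _ (congrArg (fun z => (z.1 ⟨_, p.π_sub v⟩).1) k) (congrArg (fun z => p.ι (z.2.1 (p.π v))) k)
  · rw [Nat.card_prod, card_End, h3, pow_add]
    exact Nat.mul_le_mul_left _ hd

theorem irr (hd : finrank K P = finrank K V) (hg : IrrV g) : IrrV (h.ap (p.ex g)) := fun W hW => by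
  have : Module.Finite K V := Module.Finite.of_finite
  have : Module.Finite K P := Module.Finite.of_finite
  have k := (LinearMap.injective_iff_surjective_of_finrank_eq_finrank hd).1 (Function.LeftInverse.injective p.πι)
  rw [← map_comap_eq_of_surjective k W]
  exact (hg (W.comap p.ι) fun w hw => show p.ι (g w) ∈ W from p.ap_ι g w ▸ hW _ hw).imp (fun e => by rw [e, Submodule.map_bot])
    fun e => by rw [e, Submodule.map_top, LinearMap.range_eq_top.2 k]

theorem un_ne (hg : p.Is g) {j : ℕ} {x : P} (hx : (g ^ j) x ≠ x) : p.un hg ^ j ≠ 1 := fun k => hx (by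
  have k' : p.ex (g ^ j) = 1 := (map_pow p.ex g j).trans ((Units.val_pow_eq_pow_val _ _).symm.trans (congrArg Units.val k))
  rw [← p.πι x, ← π_ap, k', h.ap_one])

end Pl

/-- a two by two matrix -/
def mt (a b c d : K) : End K (K × K) :=
  (a • LinearMap.fst K K K + b • LinearMap.snd K K K).prod (c • LinearMap.fst K K K + d • LinearMap.snd K K K)

variable {a b c d : K}

theorem mt_ap (a b c d : K) (x : K × K) : mt a b c d x = (a * x.1 + b * x.2, c * x.1 + d * x.2) := rfl

theorem mt_mul (a b c d a' b' c' d' : K) :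
    mt a b c d * mt a' b' c' d' = mt (a * a' + b * c') (a * b' + b * d') (c * a' + d * c') (c * b' + d * d') :=
  LinearMap.ext fun x => Prod.ext (by simp only [End.mul_apply, mt_ap]; ring) (by simp only [End.mul_apply, mt_ap]; ring)

theorem mt_one (ha : a = 1) (hb : b = 0) (hc : c = 0) (hd : d = 1) : mt a b c d = 1 :=
  LinearMap.ext fun x => by simp [mt_ap, ha, hb, hc, hd]

theorem mt_inj (k : (a - 1) * (d - 1) - b * c ≠ 0) : Function.Injective (mt a b c d - 1 : End K (K × K)) :=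
  (injective_iff_map_eq_zero _).2 fun x hx => by
    have h1 : a * x.1 + b * x.2 - x.1 = 0 := congrArg Prod.fst hx
    have h2 : c * x.1 + d * x.2 - x.2 = 0 := congrArg Prod.snd hx
    exact Prod.ext (mul_left_cancel₀ k (by rw [Prod.fst_zero]; linear_combination (d - 1) * h1 - b * h2))
      (mul_left_cancel₀ k (by rw [Prod.snd_zero]; linear_combination (a - 1) * h2 - c * h1))

theorem span2 {v w : K × K} (k : v.1 * w.2 - v.2 * w.1 ≠ 0) (x : K × K) : ∃ α β : K, α • v + β • w = x := by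
  obtain ⟨D, hD⟩ : ∃ D, (v.1 * w.2 - v.2 * w.1) * D = 1 := ⟨_, mul_inv_cancel₀ k⟩
  exact ⟨(x.1 * w.2 - x.2 * w.1) * D, (v.1 * x.2 - v.2 * x.1) * D,
    Prod.ext (by simp only [Prod.fst_add, Prod.smul_fst, smul_eq_mul]; linear_combination x.1 * hD)
      (by simp only [Prod.snd_add, Prod.smul_snd, smul_eq_mul]; linear_combination x.2 * hD)⟩

theorem card2 {g : End K (K × K)} (v : K × K) (k : v.1 * (g v).2 - v.2 * (g v).1 ≠ 0) :
    Nat.card {y : End K (K × K) // y * g = g * y} ≤ Fintype.card K ^ 2 := by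
  refine (CycV.card_le ⟨v, fun x => ?_⟩).trans_eq (by simp)
  obtain ⟨α, β, rfl⟩ := span2 k x
  exact ⟨C α + C β * X, by simp⟩

/-- a plane with a dual basis -/
def pl2 {e f e' f' : V} (h1 : h.b e e' = 1) (h2 : h.b f e' = 0) (h3 : h.b e f' = 0) (h4 : h.b f f' = 1)
    (h5 : ∀ v, h.b v e' = 0 → h.b v f' = 0 → h.b e v = 0 ∧ h.b f v = 0) : Pl h (K × K) where
  ι := (LinearMap.toSpanSingleton K V e).coprod (LinearMap.toSpanSingleton K V f)
  π := (h.lin e').prod (h.lin f')
  πι x := Prod.ext (show h.b (x.1 • e + x.2 • f) e' = x.1 by rw [h.add_left, h.smul_left, h.smul_left, h1, h2]; ring)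
    (show h.b (x.1 • e + x.2 • f) f' = x.2 by rw [h.add_left, h.smul_left, h.smul_left, h3, h4]; ring)
  b x v k := by
    obtain ⟨k1, k2⟩ := h5 v (congrArg Prod.fst k) (congrArg Prod.snd k)
    change h.b (x.1 • e + x.2 • f) v = 0
    rw [h.add_left, h.smul_left, h.smul_left, k1, k2]
    ring

theorem exists_plA (hA : Alt h) (h0 : 0 < finrank K V) : ∃ p : Pl h (K × K), ∀ a b c d : K, a * d - b * c = 1 →
    p.Is (mt a b c d) := by
  obtain ⟨F, hS⟩ := EU.exists_sp hA
  obtain ⟨e, -, he⟩ := exists_mem_ne (X := (⊤ : Submodule K V)) (by rwa [finrank_top])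
  obtain ⟨f, -, hf⟩ := (nd_top (h := h)).partner trivial he 1
  have hf' : h.b e f = -1 := by rw [IsSp.swap hS, hf]
  have n : ∀ u v, h.b u ((-1 : K) • v) = -h.b u v := fun u v => by rw [h.smul_right, hA.1, neg_one_mul]
  refine ⟨pl2 (e := e) (f := f) (e' := (-1 : K) • f) (f' := e) (by rw [n, hf', neg_neg]) (by rw [n, hA.2, neg_zero])
    (hA.2 e) hf fun v k k' => ⟨b_swap_zero k', b_swap_zero (neg_eq_zero.1 (n _ _ ▸ k))⟩, fun a b c d k x y => ?_⟩
  change h.b ((_ : K) • e + (_ : K) • f) ((_ : K) • e + (_ : K) • f) = h.b ((_ : K) • e + (_ : K) • f) ((_ : K) • e + (_ : K) • f)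
  simp only [h.add_left, h.add_right, h.smul_left, h.smul_right, hA.1, hA.2, hf, hf', mt_ap,
    LinearMap.id_apply, LinearMap.fst_apply, LinearMap.snd_apply]
  linear_combination (x.2 * y.1 - x.1 * y.2) * k

theorem aniso (hS : Sym h) (h0 : 0 < finrank K V) : ∃ w, h.b w w ≠ 0 := by
  by_contra c
  push Not at c
  obtain ⟨x, -, hx⟩ := exists_mem_ne (X := (⊤ : Submodule K V)) (by rwa [finrank_top])
  obtain ⟨y, hy⟩ := h.exists_ne hx
  have h1 := c (x + y)
  rw [h.add_left, h.add_right, h.add_right, c, c, hS.2.1 x y] at h1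
  exact mul_ne_zero hS.2.2 hy (by linear_combination h1)

/-- binary forms are universal -/
theorem univ (hS : Sym h) {Y : Submodule K V} (n : ND h Y) (d : 2 ≤ finrank K Y) (t : K) : ∃ w ∈ Y, h.b w w = t := by
  have : Module.Finite K V := Module.Finite.of_finite
  let B : LinearMap.BilinForm K V := LinearMap.mk₂ K h.b h.add_left h.smul_left h.add_right fun c u v => by
    rw [h.smul_right, hS.1, smul_eq_mul]
  obtain ⟨⟨y, s⟩, h0, h1⟩ := ClassicalGeometry.SiegelGen.exists_singular hS.2.2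
    ((B.toQuadraticMap.comp Y.subtype).prod ((-t) • QuadraticMap.sq : QuadraticForm K K)) (by rw [finrank_prod, finrank_self]; omega)
  replace h1 : h.b y y + -t * (s * s) = 0 := h1
  rcases eq_or_ne s 0 with rfl | hs
  · obtain ⟨f, hf, k⟩ := n.partner y.2 (fun k => h0 (Prod.ext (Subtype.ext k) rfl)) 1
    refine ⟨f + ((t - h.b f f) / 2) • y.1, add_mem hf (smul_mem _ _ y.2), ?_⟩
    simp only [h.add_left, h.add_right, h.smul_left, h.smul_right, hS.1, k, hS.2.1 y f, show h.b y y = 0 by simpa using h1]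
    field_simp [hS.2.2]
    ring
  · refine ⟨s⁻¹ • y.1, smul_mem _ _ y.2, ?_⟩
    rw [h.smul_left, h.smul_right, hS.1]
    field_simp
    linear_combination h1

theorem exists_plS (hS : Sym h) (h3 : 3 ≤ finrank K V) (hc : c ≠ 0) (k : a * a + c = 1) : ∃ p : Pl h (K × K),
    p.Is (mt a (-c) 1 a) := by
  have : Module.Finite K V := Module.Finite.of_finite
  obtain ⟨e, he⟩ := aniso hS (by omega)
  have n := nd_one he
  have d := n.dim
  rw [finrank_span_singleton (ne_of_b he)] at d
  obtain ⟨w, hw, hw'⟩ := univ hS n.perp (by omega) (c * h.b e e)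
  rw [mem_pp_one] at hw
  have s : ∀ u v (t : K), h.b u (t • v) = t * h.b u v := fun u v t => by rw [h.smul_right, hS.1]
  have hw2 := b_swap_zero hw
  refine ⟨pl2 (e := e) (f := w) (e' := (h.b e e)⁻¹ • e) (f' := (c * h.b e e)⁻¹ • w) (by rw [s, inv_mul_cancel₀ he])
    (by rw [s, hw, mul_zero]) (by rw [s, hw2, mul_zero]) (by rw [s, hw', inv_mul_cancel₀ (mul_ne_zero hc he)])
    fun v k k' => ⟨b_swap_zero ((mul_eq_zero.1 (s _ _ _ ▸ k)).resolve_left (inv_ne_zero he)),
      b_swap_zero ((mul_eq_zero.1 (s _ _ _ ▸ k')).resolve_left (inv_ne_zero (mul_ne_zero hc he)))⟩, fun x y => ?_⟩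
  change h.b ((_ : K) • e + (_ : K) • w) ((_ : K) • e + (_ : K) • w) = h.b ((_ : K) • e + (_ : K) • w) ((_ : K) • e + (_ : K) • w)
  simp only [h.add_left, h.add_right, h.smul_left, s, hw, hw2, hw', mt_ap, LinearMap.id_apply,
    LinearMap.fst_apply, LinearMap.snd_apply]
  linear_combination h.b e e * (x.1 * y.1 + c * x.2 * y.2) * k

theorem rot_pow (h2 : (2 : K) ≠ 0) (hc : c ≠ 0) (k : a * a + c = 1) : mt a (-c) 1 a ^ (Fintype.card K ^ 2 - 1) = 1 := by
  have hp : Fact (ringChar K).Prime := ⟨CharP.char_is_prime K _⟩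
  have : CharP (End K (K × K)) (ringChar K) := charP_of_injective_algebraMap (algebraMap K (End K (K × K))).injective _
  obtain ⟨f, -, hf⟩ := FiniteField.card K (ringChar K)
  obtain ⟨i, hi⟩ := EU.odd_card h2
  have e : mt a (-c) 1 a = algebraMap K _ a + mt 0 (-c) 1 0 := LinearMap.ext fun x => Prod.ext (by simp [mt_ap])
    (by simp [mt_ap, add_comm])
  have e2 : mt 0 (-c) 1 0 ^ 2 = algebraMap K _ (-c) := LinearMap.ext fun x => by simp [pow_two, mt_ap, Prod.ext_iff]
  have h1 := add_pow_char_pow_of_commute (ringChar K) (f * 2) (Algebra.commutes a (mt 0 (-c) 1 0))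
  have h3 : (-c) ^ (2 * i) = 1 := by
    rw [show 2 * i = Fintype.card K - 1 by omega, FiniteField.pow_card_sub_one_eq_one _ (neg_ne_zero.2 hc)]
  have h4 : mt 0 (-c) 1 0 ^ Fintype.card K ^ 2 = mt 0 (-c) 1 0 := by
    rw [show Fintype.card K ^ 2 = 2 * (2 * i * (i + 1)) + 1 by rw [hi]; ring, pow_succ, pow_mul, e2, ← map_pow, pow_mul, h3,
      one_pow, map_one, one_mul]
  rw [pow_mul, ← hf, ← map_pow, FiniteField.pow_card_pow, h4, ← e, ← Nat.sub_add_cancel (Nat.one_le_pow 2 _ Fintype.card_pos),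
    pow_succ] at h1
  have h5 : mt a (-c) 1 a * mt a c (-1) a = 1 := by
    rw [mt_mul]
    exact mt_one (by linear_combination k) (by ring) (by ring) (by linear_combination k)
  rw [← mul_one (_ ^ _), ← h5, ← mul_assoc, h1]

end ES

open ES Module Cfsg.Agent.N2C.FrSp Cfsg.Agent.N2C.Cyc

theorem boxZO : BoxZO := fun K V _ _ _ _ _ h hS => by
  have k : ∀ {a c : K}, 3 ≤ finrank K V → c ≠ 0 → a * a + c = 1 → ∀ N d, (mt a (-c) 1 a ^ 2) ^ N = 1 →
      Nat.card {y : End K (K × K) // y * mt a (-c) 1 a ^ 2 = mt a (-c) 1 a ^ 2 * y} ≤ Fintype.card K ^ d → d ≤ 4 →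
      ∃ z, El h z N ((finrank K V - 2) ^ 2 + d) := fun {a c} h3 hc k N d h1 h2 h4 => by
    obtain ⟨p, hp⟩ := exists_plS hS h3 hc k
    refine ⟨_, el_mk (sq_mem (p.un_ms hp)) (by rw [← pow_two, ← pow_mul, p.un_pow hp ((pow_mul _ 2 N).trans h1)]) ?_ ?_⟩
    · have h5 := p.cA_le (g := mt a (-c) 1 a ^ 2) (by
        rw [pow_two, mt_mul]
        exact mt_inj fun e => mul_ne_zero (mul_ne_zero hS.2.2 hS.2.2) hc (by
          linear_combination e - (a * a + c - 1) * k)) h2
      rwa [finrank_prod, finrank_self, pow_two (mt _ _ _ _), map_mul] at h5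
    · obtain ⟨n, hn⟩ := Nat.exists_eq_add_of_le' h3
      rw [hn, show n + 3 - 2 = n + 1 from rfl]
      nlinarith
  refine ⟨fun h3 => k h3 one_ne_zero (by ring : (0 : K) * 0 + 1 = 1) 2 4 ?_ ?_ le_rfl, fun h3 h5 => ?_⟩
  · simp only [pow_two, mt_mul]
    exact mt_one (by ring) (by ring) (by ring) (by ring)
  · have : Finite (End K (K × K)) := Finite.of_injective (fun a : End K _ => (a : _ → _)) DFunLike.coe_injective
    exact (Finite.card_subtype_le _).trans_eq (by rw [card_End, finrank_prod, finrank_self]; rfl)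
  classical
  obtain ⟨a, -, ha⟩ := Finset.exists_mem_notMem_of_card_lt_card (s := ({0, 1, -1} : Finset K)) (t := Finset.univ)
    (Finset.card_le_three.trans_lt (by rw [Finset.card_univ]; omega))
  simp only [Finset.mem_insert, Finset.mem_singleton, not_or] at ha
  have hc : 1 - a * a ≠ 0 := fun e => (mul_self_eq_one_iff.1 (sub_eq_zero.1 e).symm).elim ha.2.1 ha.2.2
  obtain ⟨z, hz⟩ := k h3.ge hc (by ring : a * a + (1 - a * a) = 1) (Fintype.card K ^ 2 - 1) 2
    (by rw [← pow_mul, mul_comm 2, pow_mul, rot_pow hS.2.2 hc (by ring), one_pow])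
    (card2 (1, 0) fun e => mul_ne_zero hS.2.2 ha.1 (by
      simp only [pow_two, mt_mul, mt_ap] at e
      linear_combination e)) (by omega)
  rw [h3] at hz
  exact ⟨z, _, ((Nat.coprime_self_sub_left (Nat.one_le_pow 2 _ Fintype.card_pos)).2 (Nat.coprime_one_left _)).of_dvd_right
    (dvd_pow_self _ two_ne_zero), hz⟩

theorem boxLW : BoxLW := fun K V _ _ _ _ _ h hA => by
  refine ⟨fun h2 he h4 => ?_, fun h4 h2 => ?_⟩
  · obtain ⟨p, hp⟩ := exists_plA hA (by omega)
    classical
    obtain ⟨c, -, hc⟩ := Finset.exists_mem_notMem_of_card_lt_card (s := ({0, 1, -1} : Finset K)) (t := Finset.univ)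
      (Finset.card_le_three.trans_lt (by rw [Finset.card_univ]; omega))
    simp only [Finset.mem_insert, Finset.mem_singleton, not_or] at hc
    have h1 : ∀ n, mt c 0 0 c⁻¹ ^ n = mt (c ^ n) 0 0 (c⁻¹ ^ n) := fun n => by
      induction n with
      | zero => exact (mt_one (pow_zero _) rfl rfl (pow_zero _)).symm
      | succ n ih => simp only [pow_succ, ih, mt_mul, mul_zero, zero_mul, add_zero, zero_add]
    have h3 := p.un_pow (hp c 0 0 c⁻¹ (by rw [mul_inv_cancel₀ hc.1, mul_zero, sub_zero])) ((h1 _).trans (mt_one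
      (FiniteField.pow_card_sub_one_eq_one _ hc.1) rfl rfl (FiniteField.pow_card_sub_one_eq_one _ (inv_ne_zero hc.1))))
    have h5 := p.cA_le (g := mt c 0 0 c⁻¹) (mt_inj (by
      rw [mul_zero, sub_zero]
      exact mul_ne_zero (sub_ne_zero.2 hc.2.1) (sub_ne_zero.2 (inv_ne_one.2 hc.2.1)))) (card2 (1, 1) fun e => by
        simp only [mt_ap, mul_one, one_mul, add_zero, zero_add, sub_eq_zero] at e
        exact (mul_self_eq_one_iff.1 ((congrArg (c * ·) e.symm).trans (mul_inv_cancel₀ hc.1))).elim hc.2.1 hc.2.2)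
    rw [finrank_prod, finrank_self, h2] at h5
    exact ⟨_, el_mk (sq_of_odd (p.un_ms _) (Nat.Even.sub_odd (by omega) he odd_one) h3) h3 h5 (by rw [h2]; omega)⟩
  · obtain ⟨p, hp⟩ := exists_plA hA (by omega)
    have h0 : (2 : K) = 0 := by exact_mod_cast h2 ▸ FiniteField.cast_card_eq_zero K
    have h3 := p.un_pow (hp 0 (-1) 1 (-1) (by ring)) (N := 3) (by
      simp only [pow_succ, pow_zero, one_mul, mt_mul]
      exact mt_one (by ring) (by ring) (by ring) (by ring))
    have h5 := p.cA_le (g := mt 0 (-1) 1 (-1)) (mt_inj fun e => one_ne_zero (by linear_combination e - h0))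
      (card2 (1, 0) (by simp [mt_ap]))
    rw [finrank_prod, finrank_self, h4] at h5
    exact ⟨_, el_mk (sq_of_odd (p.un_ms _) (by decide) h3) h3 h5 (by rw [h4]; omega)⟩

theorem boxSSp : BoxSSp := fun K V _ _ _ _ _ h hA k hd h1 h2 => by
  have hq := two_le_q K
  have el : ∀ {s : h.EBˣ}, s ∈ Sq h.EB → s ^ (Fintype.card K ^ k + 1) = 1 → IrrV (h.ap s) →
      El h s (Fintype.card K ^ k + 1) (2 * k) := fun h3 h4 h5 =>
    el_mk h3 h4 (hd ▸ (cycV_of_irr h5).cA_le) (by rw [hd]; nlinarith)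
  by_cases h4 : 4 ≤ Fintype.card K ^ k
  · obtain ⟨F, hS⟩ := EU.exists_sp hA
    obtain ⟨E, _, _, _, ⟨s⟩⟩ := exists_sg K h1
    obtain ⟨b⟩ := exists_blk hS s (one_mul 1) (star_one _) (by
      change finrank K (LinearMap.range (LinearMap.id : End K V)) = _
      rw [LinearMap.range_id, finrank_top, hd])
    let p : Pl h E := ⟨b.φ, b.ψ, b.ψφ, fun x v k => by rw [show v = b.φ (b.ψ v) from (b.φψ v).symm, k, map_zero, h.zero_right]⟩
    have hp : p.Is (LinearMap.mulLeft K s.lam) := fun x y => (b.b _ _).trans ((s.B_iso s.lam_σ x y).trans (b.b _ _).symm)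
    have h5 : IrrV (h.ap (p.un hp * p.un hp : h.EBˣ)) := by
      have h5 := p.irr (g := LinearMap.mulLeft K s.lam * LinearMap.mulLeft K s.lam) (s.dim.trans hd.symm) fun W hW =>
        or_iff_not_imp_left.2 fun k => by
          obtain ⟨x, hx, h0⟩ := (Submodule.ne_bot_iff _).1 k
          exact eq_top_iff.2 fun y _ => Sg.irr (s.gen (.inr ⟨rfl, h4⟩)) W (fun x hx => by
            rw [pow_two, mul_assoc]
            exact hW x hx) hx h0 y
      rwa [map_mul] at h5
    refine ⟨_, el (sq_mem (p.un_ms hp)) ?_ h5, h5, fun j h0 hj => ?_⟩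
    · rw [← pow_two, ← pow_mul, mul_comm, pow_mul, p.un_pow hp, one_pow]
      rw [LinearMap.pow_mulLeft, ← s.ord, pow_orderOf_eq_one, LinearMap.mulLeft_one, End.one_eq_id]
    · rw [← pow_two, ← pow_mul]
      refine p.un_ne hp (x := 1) fun e => ?_
      rw [LinearMap.pow_mulLeft, LinearMap.mulLeft_apply, mul_one, ← orderOf_dvd_iff_pow_eq_one, s.ord] at e
      have h6 := Nat.le_of_dvd (by omega) e
      have h7 : 2 ≤ k ∧ j ≤ 4 := by omega
      have h8 := Nat.pow_le_pow_right (n := Fintype.card K) (by omega) h7.1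
      have h9 : Fintype.card K = 2 := by nlinarith
      rw [h9] at e h6
      have h10 : k = 2 := by
        by_contra c
        have := Nat.pow_le_pow_right (n := 2) (by omega) (show 3 ≤ k by omega)
        omega
      subst h10
      omega
  obtain rfl : k = 1 := by
    by_contra c
    have := Nat.pow_le_pow_right (n := Fintype.card K) (by omega) (show 2 ≤ k by omega)
    nlinarith
  have h3 : Fintype.card K = 3 := by
    rw [pow_one] at h4
    omega
  have h0 : (3 : K) = 0 := by exact_mod_cast h3 ▸ FiniteField.cast_card_eq_zero K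
  obtain ⟨p, hp⟩ := exists_plA hA (by omega)
  have t : ∀ b c (k : 1 * 1 - b * c = 1), b * c = 0 → p.un (hp 1 b c 1 k) ∈ Sq h.EB := fun b c k k' =>
    sq_of_odd (p.un_ms _) (N := 3) (by decide) (p.un_pow _ (by
      simp only [pow_succ, pow_zero, one_mul, mt_mul]
      exact mt_one (by linear_combination 3 * k') (by linear_combination b * k' + b * h0)
        (by linear_combination c * k' + c * h0) (by linear_combination 3 * k')))
  have h5 : IrrV (h.ap (p.un (hp 0 (-1) 1 0 (by ring)))) := p.irr (by rw [finrank_prod, finrank_self, hd]) fun W hW =>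
    or_iff_not_imp_left.2 fun k => by
      obtain ⟨x, hx, h0⟩ := (Submodule.ne_bot_iff _).1 k
      refine eq_top_iff.2 fun y _ => ?_
      obtain ⟨α, β, rfl⟩ := span2 (v := x) (w := mt 0 (-1) 1 0 x) (fun e => by
        simp only [mt_ap] at e
        have h6 : x.1 ≠ 0 := fun e' => h0 (Prod.ext e' (mul_self_eq_zero.1 (by rw [e'] at e; linear_combination e)))
        exact FiniteField.isSquare_neg_one_iff.1 ⟨x.2 / x.1, by field_simp; linear_combination -e⟩ (by rw [h3])) y
      exact add_mem (W.smul_mem _ hx) (W.smul_mem _ (hW x hx))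
  refine ⟨_, el ?_ (p.un_pow _ ?_) h5, h5, fun j h6 hj => p.un_ne _ (x := (1, 0)) ?_⟩
  · have h6 := mul_mem (mul_mem (t (-1) 0 (by ring) (by ring)) (t 0 1 (by ring) (by ring))) (t (-1) 0 (by ring) (by ring))
    refine (congrArg (· ∈ Sq h.EB) (Units.ext ?_)).mp h6
    change p.ex _ * p.ex _ * p.ex _ = p.ex _
    rw [← map_mul, ← map_mul, mt_mul, mt_mul]
    congr 2 <;> ring
  · simp only [h3, pow_succ, pow_zero, one_mul, mt_mul]
    exact mt_one (by ring) (by ring) (by ring) (by ring)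
  · obtain rfl | rfl : j = 1 ∨ j = 2 := by omega
    · simp [mt_ap]
    · refine fun e => one_ne_zero (α := K) ?_
      have e' : (-1 : K) = 1 := by simpa [pow_two, mt_ap] using e
      linear_combination h0 + e'

end Cfsg.Agent.N2C.TenSO
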