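import Cfsg.Agent.N2.Cl.TenSO.Ifc
import Cfsg.Agent.N2.Cl.Sub.Jd
import Cfsg.Agent.N2.Cl.Sub.Desc

/-!
# N2 (S3519), tensor decompositions: regular unipotent elements of a factor (helper89)
-/

set_option autoImplicit false
set_option linter.unusedSectionVars false
set_option maxHeartbeats 400000

namespace Cfsg.Agent.N2C.TenSO.EU

open Cfsg.Agent.DS.Cl Cfsg.Agent.DS.Cl.Fwd Module Submodule Polynomial
open Cfsg.Agent.SB.Cl (IsSp)
open Cfsg.Agent.TH.Cl (ap_eich eich_form IsSp.swap)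
open Cfsg.Agent.N2.C1 hiding rg_step exists_rg
open Cfsg.Agent.N2C.Cyc
open Cfsg.Agent.N2C.Sub (EI rg_step)
open Cfsg.Agent.LieClassical
open scoped Matrix

variable {K V : Type} [Field K] [Fintype K] [AddCommGroup V] [Module K V] [Finite V] {h : HF K V} {F : FR h.EB}
  {Y : Submodule K V} {u : h.EBˣ}

theorem exists_sp (hA : Alt h) : ∃ F : FR h.EB, IsSp h F := by
  have : Module.Finite K V := Module.Finite.of_finite
  let B : LinearMap.BilinForm K V := LinearMap.mk₂ K h.b h.add_left h.smul_left h.add_right fun c u v => by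
    rw [h.smul_right, hA.1, smul_eq_mul]
  have hB : B.IsAlt := hA.2
  obtain ⟨m, l, c, c1, c2, c3, c4⟩ := Cfsg.Agent.S0752.result B hB
  let P : V →ₗ[K] V := c.constr K (Sum.elim (Sum.elim (fun i => c (.inl (.inl i))) 0) 0)
  have a2 : B.compLeft P + B.compRight P = B := LinearMap.ext_basis c c (by
    have c5 : ∀ j v, B v (c (.inr j)) = 0 := fun j v => by rw [← hB.neg_eq, c4, neg_zero]
    rintro ((i | i) | i) ((j | j) | j) <;> simp [P, c2, c3, c4, c5])
  refine ⟨⟨h.eb P, Lmax _, h.ap_ext fun y => h.ext_right fun x => ?_, Or.inr rfl⟩, hA.1, hA.2, rfl⟩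
  rw [h.ap_add, h.add_right, h.b_star, add_comm]
  exact LinearMap.congr_fun₂ a2 x y

theorem mem_comm_sp (k : IsSp h F) {j : ℕ} (hd : finrank K V = 2 * j) (hj : 3 ≤ j ∨ 4 ≤ Fintype.card K) {u : h.EBˣ}
    (hu : u ∈ F.Iso) : u ∈ (⁅F.Iso, F.Iso⁆ : Subgroup _) := by
  have : Module.Finite K V := Module.Finite.of_finite
  let B : LinearMap.BilinForm K V := LinearMap.mk₂ K h.b h.add_left h.smul_left h.add_right fun c u v => by
    rw [h.smul_right, k.1, smul_eq_mul]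
  obtain ⟨e, he⟩ := ClassicalGeometry.SympIso.exists_linearEquiv_sympForm B k.2.1
    (fun v hv => h.nondeg v fun w => by rw [h.swap v w, show h.b v w = 0 from hv w, map_zero, mul_zero]) hd
  let ψ : Matrix (Fin j ⊕ Fin j) (Fin j ⊕ Fin j) K →* h.EB :=
    { toFun := fun M => h.eb (e.toLinearMap ∘ₗ Matrix.toLin' M ∘ₗ e.symm.toLinearMap)
      map_one' := h.ap_ext fun v => by simp [h.ap_eb, h.ap_one]
      map_mul' := fun M N => h.ap_ext fun v => by simp [h.ap_eb, h.ap_mul] }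
  have h2 : ∀ M v, h.ap (ψ M) (e v) = e (M *ᵥ v) := fun M v => by
    change e (M *ᵥ e.symm (e v)) = _
    rw [e.symm_apply_apply]
  let φ : Matrix.symplecticGroup (Fin j) K →* h.EBˣ := (ψ.comp (Matrix.symplecticGroup (Fin j) K).subtype).toHomUnits
  have hle : φ.range ≤ F.Iso := by
    rintro _ ⟨M, rfl⟩
    refine mem_Iso_max k.2.2 ((h.unit_iff _).2 fun x y => ?_)
    obtain ⟨x, rfl⟩ := e.surjective x
    obtain ⟨y, rfl⟩ := e.surjective y
    exact (congrArg₂ _ (h2 _ x) (h2 _ y)).trans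
      ((he _ _).trans ((ClassicalGeometry.SympBasic.sympForm_mulVec M.2 x y).trans (he x y).symm))
  refine Subgroup.commutator_mono hle hle ?_
  rw [comm_range, SympPerfect.commutator_eq_top (hj.imp_right Or.inr), ← MonoidHom.range_eq_map]
  have h3 : ∀ v, LinearMap.toMatrix' (e.symm.toLinearMap ∘ₗ h.ap u ∘ₗ e.toLinearMap) *ᵥ v = e.symm (h.ap u (e v)) :=
    fun v => LinearMap.toMatrix'_mulVec _ v
  refine ⟨⟨LinearMap.toMatrix' (e.symm.toLinearMap ∘ₗ h.ap u ∘ₗ e.toLinearMap),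
    ClassicalGeometry.SympBasic.mem_symplecticGroup_iff.2 fun x y => ?_⟩, Units.ext (h.ap_ext fun v => ?_)⟩
  · rw [h3, h3, ← he, ← he, e.apply_symm_apply, e.apply_symm_apply]
    exact (h.unit_iff u).1 hu.1 _ _
  · obtain ⟨v, rfl⟩ := e.surjective v
    exact (h2 _ v).trans ((congrArg e (h3 v)).trans (e.apply_symm_apply _))

theorem exists_rg {s : K} (hs : s ≠ 0)
    (hS : ∀ Y, ND h Y → 3 ≤ finrank K Y → ∃ e ∈ Y, e ≠ 0 ∧ h.b e e = 0 ∧ ∀ t, h.b t e = 0 → ∃ c, EI h F e t s c)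
    {m : ℕ} (hm : 1 ≤ m) (base : ∀ Y, ND h Y → finrank K Y = m → ∃ u ∈ F.Iso, Rg h u Y) (i : ℕ) :
    ∀ Y, ND h Y → finrank K Y = m + 2 * i → ∃ u ∈ F.Iso, Rg h u Y := by
  induction i with
  | zero => exact base
  | succ i ih =>
    intro Y n d
    obtain ⟨e, he, h0, hee, hE⟩ := hS Y n (by omega)
    obtain ⟨f, hf, hfe⟩ := n.partner he h0 1
    have m' := nd_two hee (hfe ▸ one_ne_zero)
    have hle : span K {e, f} ≤ Y := span_le.2 (by rintro _ (rfl | rfl) <;> assumption)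
    have d' := m'.rel_dim hle
    rw [dim_two hee (hfe ▸ one_ne_zero)] at d'
    obtain ⟨u, hu, r⟩ := ih _ (n.rel_nd m' hle) (by omega)
    obtain ⟨y, hy, r'⟩ := rg_step n he hf hee hfe hu r (fun e => by rw [e, finrank_bot] at d'; omega) hs hE
    exact ⟨_, mul_mem hy hu, r'⟩

theorem rg_sp (hS : IsSp h F) {k : ℕ} (hd : finrank K V = 2 * k) (h0 : 1 ≤ k) : ∃ u ∈ F.Iso, Rg h u ⊤ := by
  have x : ∀ e t c, h.b t e = 0 → EI h F e t (-1) c := fun e t c ht =>
    ⟨SB.Tor.isoU h _ (eich_form (fun u v => by rw [hS.1, IsSp.swap hS, neg_one_mul]) (by ring) (hS.1 _)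
      (hS.2.1 e) ht (by rw [hS.1, hS.2.1]; ring)), mem_Iso_max hS.2.2 (SB.Tor.isoU_ms _ _ _), ap_eich e t (-1) c⟩
  refine exists_rg (neg_ne_zero.2 one_ne_zero) (fun Y n d => ?_) (m := 2) (by omega) (fun Y n d => ?_) (k - 1) ⊤ nd_top
    (by rw [finrank_top]; omega) <;> obtain ⟨e, he, h0⟩ := exists_mem_ne (X := Y) (by omega)
  · exact ⟨e, he, h0, hS.2.1 e, fun t ht => ⟨0, x e t 0 ht⟩⟩
  · exact (x e 0 1 (h.zero_left e)).rg n d one_ne_zero he h0 (hS.2.1 e)

theorem rg_o (hS : Sym h) (n : ND h Y) (ho : Odd (finrank K Y)) : ∃ u : h.EBˣ, (u : h.EB) * star (u : h.EB) = 1 ∧ Rg h u Y := by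
  have : Module.Finite K V := Module.Finite.of_finite
  let F : FR h.EB := ⟨h.eb ((2 : K)⁻¹ • 1), Lmax _, by
    rw [Size.star_scal, hS.1, Size.scal_add, ← two_mul, mul_inv_cancel₀ hS.2.2, Size.scal_one], Or.inr rfl⟩
  let B : LinearMap.BilinForm K V := LinearMap.mk₂ K h.b h.add_left h.smul_left h.add_right fun c u v => by
    rw [h.smul_right, hS.1, smul_eq_mul]
  obtain ⟨i, hi⟩ := ho
  obtain ⟨u, hu, r⟩ := exists_rg (F := F) one_ne_zero (fun Y n d => by
    obtain ⟨e, h0, h1⟩ := ClassicalGeometry.SiegelGen.exists_singular hS.2.2 (B.toQuadraticMap.comp Y.subtype) d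
    exact ⟨e, e.2, fun k => h0 (Subtype.ext k), h1, fun t ht => ⟨h.b t t / 2, SB.Tor.isoU h _ (eich_form (fun u v => by
      rw [one_mul, hS.1, hS.2.1]) (one_mul 1) (map_one _) h1 ht (by rw [hS.1, one_mul]; field_simp [hS.2.2]; ring)),
      mem_Iso_max rfl (SB.Tor.isoU_ms _ _ _), ap_eich _ t 1 _⟩⟩) le_rfl (fun Y' _ d => ⟨1, one_mem _, rg_one d⟩) i Y n (by omega)
  exact ⟨u, hu.1, r⟩

theorem cyc_of_sb {T : End K V} (r : Sb T Y) : ∃ v, Y ≤ orb T v := by
  have : Module.Finite K V := Module.Finite.of_finite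
  rcases Nat.eq_zero_or_pos (finrank K Y) with h0 | h0
  · exact ⟨0, (finrank_eq_zero.1 h0).le.trans bot_le⟩
  obtain ⟨v, hv, h1⟩ : ∃ v ∈ Y, (T ^ (finrank K Y - 1)) v ≠ 0 := by
    by_contra k
    push Not at k
    have h1 := r.ker_pow (finrank K Y - 1)
    rw [inf_eq_right.2 k] at h1
    omega
  refine ⟨v, (eq_of_le_of_finrank_le (inf_le_right (a := orb T v)) ?_).ge.trans inf_le_left⟩
  by_contra k
  exact h1 ((r.nl.mono inf_le_right).fin (Iv.inf (fun _ => map_mem_orb) r.iv) (by omega) ⟨self_mem_orb T v, hv⟩)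

theorem pow_card [Nontrivial V] {N : ℕ} (hN : ((u : h.EB) - 1) ^ N = 0) : u ^ Fintype.card K ^ N = 1 := by
  have : Nontrivial h.EB := inferInstanceAs (Nontrivial (End K V))
  have hp : Fact (ringChar K).Prime := ⟨CharP.char_is_prime K _⟩
  have : CharP h.EB (ringChar K) := charP_of_injective_algebraMap (algebraMap K (End K V)).injective _
  obtain ⟨f, -, hf⟩ := FiniteField.card K (ringChar K)
  have h1 := sub_pow_char_pow_of_commute (ringChar K) (f * N) (Commute.one_right (u : h.EB))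
  rw [pow_mul, ← hf, pow_eq_zero_of_le (Nat.lt_pow_self Fintype.one_lt_card).le hN, one_pow, eq_comm, sub_eq_zero] at h1
  exact Units.ext ((Units.val_pow_eq_pow_val _ _).trans h1)

/-- the element for a subspace of codimension at most one -/
theorem el_of (r : Rg h u Y) (h2 : 2 ≤ finrank K Y) {w : V} (hw : h.ap u w = w) (hY : ∀ z, ∃ y ∈ Y, ∃ a : K, z = y + a • w) :
    (∃ j, u ^ Fintype.card K ^ j = 1) ∧ (u : h.EB) ∉ Subring.center h.EB ∧ Fx h u 2 ∧
      cA (u : h.EB) ≤ Fintype.card K ^ (finrank K V + 2) ∧ (w = 0 → Fx h u 1 ∧ cA (u : h.EB) ≤ Fintype.card K ^ finrank K V) := by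
  have : Module.Finite K V := Module.Finite.of_finite
  have := nontrivial_of_dim (K := K) (V := V) (by have := Y.finrank_le; omega)
  have h3 : (h.ap u - 1) w = 0 := sub_eq_zero.2 hw
  have h4 : ((u : h.EB) - 1) ^ finrank K Y = 0 := h.ap_ext fun z => by
    obtain ⟨y, hy, a, rfl⟩ := hY z
    change ((h.ap u - 1) ^ finrank K Y) _ = 0
    rw [map_add, map_smul, r.sb.nl.fin r.sb.iv le_rfl hy, ← Nat.sub_add_cancel (show 1 ≤ finrank K Y by omega), pow_succ,
      End.mul_apply, h3, map_zero, smul_zero, add_zero]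
  have h5 := r.sb.card_ker 1
  rw [pow_one, pow_one, Nat.card_eq_fintype_card (α := K)] at h5
  have h6 : Fx h u 2 := by
    refine (Nat.card_le_card_of_surjective (fun z : ↥(LinearMap.ker (h.ap u - 1) ⊓ Y) × K => ⟨z.1.1 + z.2 • w, by
      rw [map_add, map_smul, hw, show h.ap u z.1.1 = z.1.1 from sub_eq_zero.1 z.1.2.1]⟩) fun z => ?_).trans ?_
    · obtain ⟨y, hy, a, k⟩ := hY z.1
      have h6 := z.2
      rw [k, map_add, map_smul, hw, add_left_inj] at h6
      exact ⟨(⟨y, sub_eq_zero.2 h6, hy⟩, a), Subtype.ext k.symm⟩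
    · rw [Nat.card_prod, Nat.card_eq_fintype_card (α := K), pow_two]
      exact Nat.mul_le_mul_right _ h5
  obtain ⟨v, hv⟩ := cyc_of_sb r.sb
  have h7 : ∀ x x' : {x : h.EB // x * u = u * x}, h.ap x.1 v = h.ap x'.1 v → h.ap x.1 w = h.ap x'.1 w → x = x' :=
    fun x x' k k' => Subtype.ext (h.ap_ext fun z => by
      obtain ⟨y, hy, a, rfl⟩ := hY z
      obtain ⟨f, rfl⟩ := hv hy
      have c : ∀ x : {x : h.EB // x * u = u * x}, h.ap x.1 (aeval (h.ap u - 1) f v) = aeval (h.ap u - 1) f (h.ap x.1 v) :=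
        fun x => LinearMap.congr_fun (aeval_comm (x := h.ap x.1) (by
          rw [mul_sub, sub_mul, mul_one, one_mul]
          exact congrArg (· - _) x.2) f) v
      rw [map_add, map_add, map_smul, map_smul, c, c, k, k'])
  refine ⟨⟨_, pow_card h4⟩, fun k => ?_, h6, ?_, ?_⟩
  · have h8 := r.sb.ker
    rw [show h.ap u - 1 = 0 from Sub.cen_nil h.ss (sub_mem k (one_mem _)) ⟨_, h4⟩, LinearMap.ker_zero, top_inf_eq] at h8
    omega
  · refine (Nat.card_le_card_of_injective (fun x => ((h.ap x.1 v, ⟨h.ap x.1 w, by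
      rw [← h.ap_mul, ← x.2, h.ap_mul, hw]⟩) : V × {v : V // h.ap u v = v})) fun x x' k =>
      h7 x x' (congrArg Prod.fst k) (congrArg (·.2.1) k)).trans ?_
    rw [Nat.card_prod, card_V K V, pow_add]
    exact Nat.mul_le_mul_left _ h6
  · rintro rfl
    have hz : ∀ z, z ∈ Y := fun z => by
      obtain ⟨y, hy, a, k⟩ := hY z
      rwa [k, smul_zero, add_zero]
    exact ⟨le_trans (Nat.card_le_card_of_injective (fun z : {v : V // h.ap u v = v} =>
      (⟨z.1, sub_eq_zero.2 z.2, hz _⟩ : ↥(LinearMap.ker (h.ap u - 1) ⊓ Y))) fun _ _ k =>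
      Subtype.ext (congrArg (·.1) k)) (h5.trans_eq (pow_one _).symm),
      (Nat.card_le_card_of_injective _ fun x x' k => h7 x x' k (by rw [map_zero, map_zero])).trans_eq (card_V K V)⟩

theorem odd_card (h2 : (2 : K) ≠ 0) : Odd (Fintype.card K) :=
  Nat.odd_iff.2 (FiniteField.odd_card_of_char_ne_two fun k => h2 (by exact_mod_cast (ringChar.spec K 2).2 k.dvd))

end EU

open EU Module Submodule Cfsg.Agent.N2.C1

theorem boxUSp : BoxUSp := fun K V _ _ _ _ _ h hA k hd h1 h2 => by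
  obtain ⟨F, hS⟩ := exists_sp hA
  obtain ⟨u, hu, r⟩ := rg_sp hS hd h1
  obtain ⟨⟨j, h3⟩, h4, -, -, h5⟩ := el_of r (by rw [finrank_top]; omega) (map_zero _) fun z => ⟨z, trivial, 0, by simp⟩
  refine ⟨u, j, ⟨?_, h3, h4, hd ▸ (h5 rfl).2⟩, (h5 rfl).1⟩
  rcases (Fintype.card K).even_or_odd with h6 | h6
  · exact sq_of_comm (mem_comm_sp hS hd (by grind) hu)
  · exact sq_of_odd hu.1 h6.pow h3

theorem boxUO : BoxUO := fun K V _ _ _ _ _ h hS h3 => by
  have : Module.Finite K V := Module.Finite.of_finite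
  have k : Odd (finrank K V) → ∃ u j, (El h u (Fintype.card K ^ j) (finrank K V + 2) ∧ Fx h u 2) ∧
      El h u (Fintype.card K ^ j) (finrank K V) ∧ Fx h u 1 := fun ho => by
    obtain ⟨u, hu, r⟩ := rg_o hS nd_top (by rwa [finrank_top])
    obtain ⟨⟨j, h1⟩, h4, h5, h6, h7⟩ := el_of r (by rw [finrank_top]; omega) (map_zero _) fun z => ⟨z, trivial, 0, by simp⟩
    have h8 := sq_of_odd hu (odd_card hS.2.2).pow h1
    exact ⟨u, j, ⟨⟨h8, h1, h4, h6⟩, h5⟩, ⟨h8, h1, h4, (h7 rfl).2⟩, (h7 rfl).1⟩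
  refine ⟨(finrank K V).even_or_odd.elim (fun he => ?_) fun ho => (k ho).imp fun _ => .imp fun _ => And.left,
    fun ho => (k ho).imp fun _ => .imp fun _ => And.right⟩
  obtain ⟨w, hw⟩ : ∃ w, h.b w w ≠ 0 := by
    by_contra c
    push Not at c
    obtain ⟨x, -, hx⟩ := exists_mem_ne (X := (⊤ : Submodule K V)) (by rw [finrank_top]; omega)
    obtain ⟨y, hy⟩ := h.exists_ne hx
    have h1 := c (x + y)
    rw [h.add_left, h.add_right, h.add_right, c, c, hS.2.1 x y] at h1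
    exact mul_ne_zero hS.2.2 hy (by linear_combination h1)
  have n := nd_one hw
  have d := n.dim
  rw [finrank_span_singleton (ne_of_b hw)] at d
  obtain ⟨u, hu, r⟩ := rg_o hS n.perp (by grind)
  obtain ⟨⟨j, h1⟩, h4, h5, h6, -⟩ := el_of r (by grind) (r.fix w (le_pp_pp (mem_span_singleton_self w))) fun z => by
    obtain ⟨_, ha, b, hb, rfl⟩ := n.split z
    obtain ⟨a, rfl⟩ := mem_span_singleton.1 ha
    exact ⟨b, hb, a, add_comm _ _⟩
  exact ⟨u, j, ⟨sq_of_odd hu (odd_card hS.2.2).pow h1, h1, h4, h6⟩, h5⟩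

end Cfsg.Agent.N2C.TenSO
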