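import Cfsg.Agent.N2.Cl.TenSO.Ifc

/-!
# N2 (S3519), tensor decompositions: the factors `O₂(q)`, `Sp₂(2)`, `O₃(3)` (helper82)
-/

set_option autoImplicit false
set_option linter.unusedSectionVars false

namespace Cfsg.Agent.N2C.TenSO

open Cfsg.Agent.DS.Cl Cfsg.Agent.DS.Cl.Fwd Module

namespace EX

variable {K V : Type} [Field K] [Fintype K] [AddCommGroup V] [Module K V] [Finite V] {h : HF K V} {n : ℕ}

/-- matrices with respect to a basis -/
noncomputable def mat (h : HF K V) (v : Basis (Fin n) K V) : h.EB ≃+* Matrix (Fin n) (Fin n) K :=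
  (LinearMap.toMatrixAlgEquiv v).toRingEquiv

theorem mat_apply (v : Basis (Fin n) K V) (x : h.EB) (i j : Fin n) : mat h v x i j = v.repr (h.ap x (v j)) i :=
  LinearMap.toMatrixAlgEquiv_apply v _ i j

theorem not_cen {R S : Type} [Ring R] [Ring S] (e : R ≃+* S) {x : R} {z : S} (hz : z * e x ≠ e x * z) :
    x ∉ Subring.center R := fun hx => hz (by
  have := congrArg e (Subring.mem_center_iff.1 hx (e.symm z))
  rwa [map_mul, map_mul, e.apply_symm_apply] at this)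

theorem exists_mat (hS : Sym h) (hn : finrank K V = n) : ∃ (e : h.EB ≃+* Matrix (Fin n) (Fin n) K) (d : Fin n → K),
    (∀ i, d i ≠ 0) ∧ ∀ x, star x = -x ↔ ∀ i j, d i * e x i j = -(d j * e x j i) := by
  have : Module.Finite K V := Module.Finite.of_finite
  let B : LinearMap.BilinForm K V := LinearMap.mk₂ K h.b h.add_left h.smul_left h.add_right fun c u v => by
    rw [h.smul_right, hS.1, smul_eq_mul]
  let _ := invertibleOfNonzero hS.2.2
  subst hn
  obtain ⟨v, hv⟩ := LinearMap.BilinForm.exists_orthogonal_basis (B := B) ⟨fun x y => hS.2.1 x y⟩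
  have hd := hv.not_isOrtho_basis_self_of_separatingLeft fun x hx => h.nondeg x fun u => (hS.2.1 u x).trans (hx u)
  have h1 : ∀ i w, B (v i) w = B (v i) (v i) * v.repr w i := fun i w => by
    conv_lhs => rw [← v.sum_repr w, map_sum]
    rw [Finset.sum_eq_single i (fun j _ hj => by rw [map_smul, show B (v i) (v j) = 0 from hv hj.symm, smul_zero])
      (by simp), map_smul, smul_eq_mul, mul_comm]
  have h2 : ∀ (x : h.EB) i j, B (v i) (v i) * mat h v x i j = h.b (v i) (h.ap x (v j)) := fun x i j => by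
    rw [mat_apply, ← h1]
    rfl
  have h3 : ∀ (x : h.EB) i j, B (v i) (v i) * mat h v (star x) i j = B (v j) (v j) * mat h v x j i := fun x i j => by
    rw [h2, h2, h.b_star, hS.2.1]
  refine ⟨mat h v, fun i => B (v i) (v i), hd, fun x => ⟨fun hx i j => ?_, fun hx => (mat h v).injective ?_⟩⟩
  · beta_reduce
    rw [← h3, hx, map_neg, Matrix.neg_apply, mul_neg]
  · ext i j
    refine mul_left_cancel₀ (hd i) ?_
    rw [h3, hx, map_neg, Matrix.neg_apply, mul_neg]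

theorem o2 (hS : Sym h) (hn : finrank K V = 2) : (∀ x y : h.EB, star x = -x → star y = -y → x * y = y * x) ∧
    ∃ x : h.EB, star x = -x ∧ x ∉ Subring.center h.EB := by
  obtain ⟨e, d, hd, he⟩ := exists_mat hS hn
  have h0 : ∀ x, star x = -x → ∀ i, e x i i = 0 := fun x hx i =>
    (mul_eq_zero.1 (by linear_combination (he x).1 hx i i : 2 * d i * e x i i = 0)).resolve_left
      (mul_ne_zero hS.2.2 (hd i))
  refine ⟨fun x y hx hy => e.injective ?_, e.symm !![0, -d 1; d 0, 0], (he _).2 ?_,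
    not_cen e (z := !![1, 0; 0, 0]) fun h1 => hd 0 ?_⟩
  · have h1 : e x 0 1 * e y 1 0 = e y 0 1 * e x 1 0 := mul_left_cancel₀ (hd 0) (by
      linear_combination e y 1 0 * (he x).1 hx 0 1 - e x 1 0 * (he y).1 hy 0 1)
    rw [map_mul, map_mul]
    ext i j
    fin_cases i <;> fin_cases j <;> simp [Matrix.mul_apply, Fin.sum_univ_two, h0 x hx, h0 y hy, h1]
    linear_combination -h1
  · rw [e.apply_symm_apply]
    intro i j
    fin_cases i <;> fin_cases j <;> simp [mul_comm]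
  · have h2 := congrFun (congrFun h1 1) 0
    rw [e.apply_symm_apply] at h2
    simpa [Matrix.mul_apply, Fin.sum_univ_two] using h2.symm

theorem tab2 : ∀ a b c d a' b' c' d' : ZMod 2, !![a, b; c, d] * !![a, b; c, d] + !![a, b; c, d] + 1 = 0 →
    !![a', b'; c', d'] * !![a', b'; c', d'] + !![a', b'; c', d'] + 1 = 0 →
    !![a, b; c, d] * !![a', b'; c', d'] = !![a', b'; c', d'] * !![a, b; c, d] := by
  decide +kernel

theorem sp2 (hn : finrank K V = 2) (hK : Fintype.card K = 2) :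
    (∀ x y : h.EB, x * x + x + 1 = 0 → y * y + y + 1 = 0 → x * y = y * x) ∧
    ∃ x : h.EB, x * x + x + 1 = 0 ∧ x ∉ Subring.center h.EB := by
  have : Module.Finite K V := Module.Finite.of_finite
  let e : h.EB ≃+* Matrix (Fin 2) (Fin 2) (ZMod 2) :=
    (mat h (Module.finBasisOfFinrankEq K V hn)).trans (ZMod.ringEquivOfPrime K Nat.prime_two hK).symm.mapMatrix
  refine ⟨fun x y hx hy => e.injective ?_, e.symm !![0, 1; 1, 1], e.injective ?_,
    not_cen e (z := !![1, 0; 0, 0]) ?_⟩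
  · have h1 := congrArg e hx
    have h2 := congrArg e hy
    rw [map_add, map_add, map_mul, map_one, map_zero, Matrix.eta_fin_two (e _)] at h1 h2
    rw [map_mul, map_mul, Matrix.eta_fin_two (e x), Matrix.eta_fin_two (e y)]
    exact tab2 _ _ _ _ _ _ _ _ h1 h2
  · rw [map_add, map_add, map_mul, map_one, map_zero, e.apply_symm_apply]
    decide +kernel
  · rw [e.apply_symm_apply]
    decide +kernel

/-- the skew matrices -/
def sk (d0 d1 d2 a b c : ZMod 3) : Matrix (Fin 3) (Fin 3) (ZMod 3) :=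
  !![0, a, b; -(d0 * d1 * a), 0, c; -(d0 * d2 * b), -(d1 * d2 * c), 0]

theorem tab3 : ∀ d0 d1 d2 : ZMod 3, d0 ≠ 0 → d1 ≠ 0 → d2 ≠ 0 → ∀ a b c : ZMod 3,
    sk d0 d1 d2 a b c * sk d0 d1 d2 a b c * sk d0 d1 d2 a b c = -sk d0 d1 d2 a b c → ∀ a' b' c' : ZMod 3,
    sk d0 d1 d2 a' b' c' * sk d0 d1 d2 a' b' c' * sk d0 d1 d2 a' b' c' = -sk d0 d1 d2 a' b' c' →
    sk d0 d1 d2 a b c * sk d0 d1 d2 a b c * (sk d0 d1 d2 a' b' c' * sk d0 d1 d2 a' b' c') =
      sk d0 d1 d2 a' b' c' * sk d0 d1 d2 a' b' c' * (sk d0 d1 d2 a b c * sk d0 d1 d2 a b c) := by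
  decide +kernel

set_option synthInstance.maxSize 2000 in
theorem tab4 : ∀ d0 d1 d2 : ZMod 3, d0 ≠ 0 → d1 ≠ 0 → d2 ≠ 0 → ∃ a b c : ZMod 3,
    sk d0 d1 d2 a b c * sk d0 d1 d2 a b c * sk d0 d1 d2 a b c = -sk d0 d1 d2 a b c ∧
    (∀ i j : Fin 3, ![d0, d1, d2] i * sk d0 d1 d2 a b c i j = -(![d0, d1, d2] j * sk d0 d1 d2 a b c j i)) ∧
    !![0, 1, 0; 0, 0, 1; 0, 0, 0] * (sk d0 d1 d2 a b c * sk d0 d1 d2 a b c) ≠
      sk d0 d1 d2 a b c * sk d0 d1 d2 a b c * !![0, 1, 0; 0, 0, 1; 0, 0, 0] := by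
  decide +kernel

theorem tab5 : ∀ d d' a a' : ZMod 3, d ≠ 0 → d * a = -(d' * a') → a = -(d' * d * a') := by decide

theorem tab6 : ∀ d a : ZMod 3, d ≠ 0 → d * a = -(d * a) → a = 0 := by decide

theorem o3 (hS : Sym h) (hn : finrank K V = 3) (hK : Fintype.card K = 3) :
    (∀ x y : h.EB, star x = -x → star y = -y → x * x * x = -x → y * y * y = -y → x * x * (y * y) = y * y * (x * x)) ∧
    ∃ x : h.EB, star x = -x ∧ x * x * x = -x ∧ x * x ∉ Subring.center h.EB := by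
  obtain ⟨e₀, d₀, hd₀, he₀⟩ := exists_mat hS hn
  let f := (ZMod.ringEquivOfPrime K Nat.prime_three hK).symm
  obtain ⟨e, d, hd, he⟩ : ∃ (e : h.EB ≃+* Matrix (Fin 3) (Fin 3) (ZMod 3)) (d : Fin 3 → ZMod 3),
      (∀ i, d i ≠ 0) ∧ ∀ x, star x = -x ↔ ∀ i j, d i * e x i j = -(d j * e x j i) := by
    refine ⟨e₀.trans f.mapMatrix, fun i => f (d₀ i), fun i => (map_ne_zero_iff f f.injective).2 (hd₀ i), fun x => ?_⟩
    rw [he₀]
    refine forall₂_congr fun i j => ?_
    rw [← f.injective.eq_iff, map_neg, map_mul, map_mul]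
    rfl
  have h1 : ∀ x, star x = -x → e x = sk (d 0) (d 1) (d 2) (e x 0 1) (e x 0 2) (e x 1 2) := fun x hx => by
    have h2 := (he x).1 hx
    ext i j
    fin_cases i <;> fin_cases j
    exacts [tab6 _ _ (hd 0) (h2 0 0), rfl, rfl, tab5 _ _ _ _ (hd 1) (h2 1 0), tab6 _ _ (hd 1) (h2 1 1), rfl,
      tab5 _ _ _ _ (hd 2) (h2 2 0), tab5 _ _ _ _ (hd 2) (h2 2 1), tab6 _ _ (hd 2) (h2 2 2)]
  refine ⟨fun x y hx hy hx3 hy3 => e.injective ?_, ?_⟩
  · have h2 := congrArg e hx3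
    have h3 := congrArg e hy3
    rw [map_mul, map_mul, map_neg, h1 x hx] at h2
    rw [map_mul, map_mul, map_neg, h1 y hy] at h3
    simp only [map_mul]
    rw [h1 x hx, h1 y hy]
    exact tab3 _ _ _ (hd 0) (hd 1) (hd 2) _ _ _ h2 _ _ _ h3
  · obtain ⟨a, b, c, h2, h3, h4⟩ := tab4 _ _ _ (hd 0) (hd 1) (hd 2)
    have h5 : ![d 0, d 1, d 2] = d := by
      ext i
      fin_cases i <;> rfl
    rw [h5] at h3
    refine ⟨e.symm (sk (d 0) (d 1) (d 2) a b c), (he _).2 (by rwa [e.apply_symm_apply]), e.injective ?_,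
      not_cen e (z := !![0, 1, 0; 0, 0, 1; 0, 0, 0]) ?_⟩
    · rwa [map_mul, map_mul, map_neg, e.apply_symm_apply]
    · rwa [map_mul, e.apply_symm_apply]

end EX

/-- **[X]** -/
theorem boxX : BoxX := fun _ _ _ _ _ _ _ _ => ⟨EX.o2, fun _ => EX.sp2, EX.o3⟩

end Cfsg.Agent.N2C.TenSO
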