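import Cfsg.Agent.N2.Cl.TenSO.Cases
import Cfsg.Agent.N2.Cl.TenSO.EltU
import Cfsg.Agent.N2.Cl.TenSO.EltS
import Cfsg.Agent.N2.Cl.TenSO.EltX

/-!
# N2 (S3519), tensor decompositions in symplectic and orthogonal groups (helper92)
-/

set_option autoImplicit false

namespace Cfsg.Agent.N2C

theorem TenSO.bx : TenSO.Bx := ⟨TenSO.boxUSp, TenSO.boxUO, TenSO.boxSSp, TenSO.boxLW, TenSO.boxZO, TenSO.boxX⟩

/-- **symplectic groups, tensor decompositions** -/
theorem tenSp : OnSp 3 pTen := TenSO.tenSp_of TenSO.bx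

/-- **orthogonal groups, tensor decompositions** -/
theorem tenO : OnO pTen := TenSO.tenO_of TenSO.bx

end Cfsg.Agent.N2C
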