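import Cfsg.Agent.N2.Cl.TenSO.Mod
import Cfsg.Agent.H875.KB.Gen

/-!
# N2 (S3519), tensor decompositions: the ambient symplectic or orthogonal group (helper92)
-/

set_option autoImplicit false
set_option linter.unusedSectionVars false
set_option maxHeartbeats 400000

namespace Cfsg.Agent.N2C.TenSO

open Cfsg.Agent.DS.Cl Cfsg.Agent.DS.Cl.Fwd Cfsg.Agent.SB.Cl Module
open Cfsg.Agent.TH.Cl (KSp KO)
open Cfsg.Agent.N2C.Cyc
open Cfsg.Agent.LieClassical.OrthCore (O)

/-- the ambient group -/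
structure Amb {A : Type} [Ring A] [StarRing A] (F : FR A) (W : Type) [AddCommGroup W] [Module A W] (q n : ℕ) : Prop where
  two : 2 ≤ q
  six : 6 ≤ n
  cardA : Nat.card A = q ^ n ^ 2
  cardW : Nat.card W = q ^ n
  cen : Nat.card (Subring.center A) = q
  st : ∀ z ∈ Subring.center A, star z = z
  unit : ∀ a : A, (∀ v : W, a • v = 0 → v = 0) → IsUnit a
  dvd : ∀ (B : Subring A) m e, Ru B m e → m ∣ n
  gb : ∀ u ∈ F.Iso, cI F u ^ 2 ≤ cA (u : A) * q ^ n
  nil : ∀ (u : A) j, u ^ q ^ j = 1 → IsNilpotent (u - 1)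
  tu : Odd q → IsUnit (2 : A)
  sq : ∀ u ∈ F.Iso, u * u ∈ I0 F
  s32 : 5 * q ^ n.choose 2 ≤ 32 * Nat.card F.S
  s8 : Even q → 5 * q ^ n.choose 2 ≤ 8 * Nat.card F.S
  sp : Odd q → ∀ B : Subring A, Rk B n (-1) → q ^ (n + 1).choose 2 ≤ 3 * Nat.card F.S

variable {K V : Type} [Field K] [Fintype K] [AddCommGroup V] [Module K V] [Finite V] {h : HF K V} {F : FR h.EB}

/-- the natural module -/
abbrev modE (h : HF K V) : Module h.EB V := inferInstanceAs (Module (End K V) V)

theorem card_fix (e : End K V) : Nat.card {v : V // e v = v} = Fintype.card K ^ finrank K (LinearMap.ker (e - 1)) := by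
  rw [← card_V]
  exact Nat.card_congr (Equiv.subtypeEquivRight fun v => (sub_eq_zero (a := e v) (b := v)).symm)

theorem ru_dim {B : Subring h.EB} {m : ℕ} {e : h.EB} (r : Ru B m e) :
    finrank K (LinearMap.ker (h.ap e - 1)) * m = finrank K V := by
  have h1 : Nat.card {v : V // h.ap e v = v} ^ m = Nat.card V := @Ru.card_vec _ V _ _ _ (modE h) _ _ _ _ r
  rw [card_fix, card_V K V, ← pow_mul] at h1
  exact Nat.pow_right_injective (two_le_q K) h1

theorem nil_of_pow [Nontrivial V] (u : h.EB) (j : ℕ) (hu : u ^ Fintype.card K ^ j = 1) : IsNilpotent (u - 1) := by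
  obtain ⟨p, _, f, hp, hf⟩ := FiniteField.card' K
  have : Fact p.Prime := ⟨hp⟩
  have : Nontrivial h.EB := h.ss.1
  have : CharP h.EB p := (CharP.charP_iff_prime_eq_zero hp).2 (h.ap_ext fun v => by
    change (p : End K V) v = 0
    rw [End.natCast_apply, ← Nat.cast_smul_eq_nsmul K, CharP.cast_eq_zero, zero_smul])
  rw [hf, ← pow_mul] at hu
  exact ⟨_, by rw [sub_pow_char_pow_of_commute _ _ (Commute.one_right u), hu, one_pow, sub_self]⟩

theorem amb_of (hτ : ∀ c, h.τ c = c) (h6 : 6 ≤ finrank K V) (sq : ∀ u ∈ F.Iso, u * u ∈ I0 F)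
    (s32 : 5 * Fintype.card K ^ (finrank K V).choose 2 ≤ 32 * Nat.card F.S)
    (s8 : Even (Fintype.card K) → 5 * Fintype.card K ^ (finrank K V).choose 2 ≤ 8 * Nat.card F.S)
    (sp : Odd (Fintype.card K) → ∀ B : Subring h.EB, Rk B (finrank K V) (-1) →
      Fintype.card K ^ (finrank K V + 1).choose 2 ≤ 3 * Nat.card F.S) :
    @Amb _ _ _ F V _ (modE h) (Fintype.card K) (finrank K V) := by
  have : Nontrivial V := nontrivial_of_dim (K := K) (by omega)
  have : Module.Finite K V := Module.Finite.of_finite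
  obtain ⟨v, hv⟩ := exists_ne (0 : V)
  have sc : ∀ z ∈ Subring.center h.EB, ∃ c : K, h.eb (c • 1) = z := fun z hz =>
    (SB.Tor.exists_sc h hz).imp fun c hc => h.ap_ext fun v => (hc v).symm
  refine @Amb.mk _ _ _ F V _ (modE h) _ _ (two_le_q K) h6 (Size.card_EB h) (card_V K V) ?_ (fun z hz => ?_)
    (fun a ha => (LinearMap.isUnit_iff_ker_eq_bot (h.ap a)).2 (LinearMap.ker_eq_bot'.2 ha))
    (fun B m e r => Dvd.intro_left _ (ru_dim r)) (fun u hu => ?_) nil_of_pow (fun h2 => ?_) sq s32 s8 sp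
  · rw [← Nat.card_eq_fintype_card]
    exact (Nat.card_eq_of_bijective (fun c : K => (⟨h.eb (c • 1), h.smul_mem_center c⟩ : Subring.center h.EB))
      ⟨fun c d k => smul_left_injective K hv (congrArg (fun x => h.ap x v) (Subtype.mk.inj k)),
        fun z => (sc z z.2).imp fun c hc => Subtype.ext hc⟩).symm
  · obtain ⟨c, rfl⟩ := sc z hz
    rw [sc_star, hτ]
  · have h1 := SzG.sizeG h F hu (W := I0 F) F.comm_le_Iso
    rw [card_V K V] at h1
    refine le_trans (le_of_eq (congrArg (· ^ 2) (Nat.card_congr (Equiv.subtypeEquivRight fun x => ?_)))) (h1.trans (le_of_eq ?_))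
    · rw [Subgroup.mem_inf, Subgroup.mem_centralizer_singleton_iff, and_comm]
    · exact congrArg (· * _) (Nat.card_congr (Equiv.subtypeEquivRight fun x => eq_comm))
  · refine IsUnit.of_mul_eq_one (h.eb ((2 : K)⁻¹ • 1)) (h.ap_ext fun v => ?_)
    rw [two_mul, h.ap_add, h.ap_one]
    change (2 : K)⁻¹ • v + (2 : K)⁻¹ • v = v
    rw [← add_smul, ← two_mul, mul_inv_cancel₀ ((two_ne_iff K).2 h2), one_smul]

theorem amb_Sp {k : ℕ} (s : KSp h F k) (h3 : 3 ≤ k) : @Amb _ _ _ F V _ (modE h) (Fintype.card K) (finrank K V) := by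
  have h1 : Fintype.card K ^ (finrank K V + 1).choose 2 ≤ 3 * Nat.card F.S := by
    have h2 := oSp_ge' (two_le_q K) k
    have h4 := Nat.mul_le_mul_right (Nat.card F.S) (Nat.gcd_le_left (Fintype.card K - 1) two_pos)
    have h5 := two_choose (2 * k + 1)
    rw [card_S_Sp s] at h4
    rw [s.dim, show (2 * k + 1).choose 2 = 2 * k ^ 2 + k by nlinarith]
    omega
  have h2 : 5 * Fintype.card K ^ (finrank K V).choose 2 ≤ 8 * Nat.card F.S := by
    rw [choose_succ, pow_add] at h1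
    have h4 := Nat.mul_le_mul_left (Fintype.card K ^ (finrank K V).choose 2)
      ((two_le_q K).trans (Nat.le_self_pow (n := finrank K V) (by rw [s.dim]; omega) _))
    omega
  exact amb_of s.sp.1 (by rw [s.dim]; omega) (fun u hu => s.mem_comm (mul_mem hu hu)) (by omega) (fun _ => h2) fun _ _ _ => h1

/-- no skew elements of rank one for symmetric forms -/
theorem not_rk (hb : ∀ u v, h.b u v = h.b v u) (h2 : (2 : K) ≠ 0) (h0 : 0 < finrank K V) {B : Subring h.EB}
    (r : Rk B (finrank K V) (-1)) : False := by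
  obtain ⟨e, s, r, -, h3, ⟨a, -, b, -, h4⟩, c, -, d, -, h5⟩ := r
  have h6 : finrank K (LinearMap.ker (h.ap e - 1)) = 1 := Nat.eq_of_mul_eq_mul_right h0 ((ru_dim r).trans (one_mul _).symm)
  obtain ⟨x, hx, h7⟩ := finrank_eq_one_iff'.1 h6
  obtain ⟨ι, _, -, -, -, -, -, -, h8, -⟩ := r
  have h9 : ∀ v, ∃ t : K, h.ap s v = t • h.ap a x := fun v => by
    obtain ⟨t, ht⟩ := h7 ⟨h.ap e (h.ap b v), sub_eq_zero.2 (by rw [← h.ap_mul, h8]; rfl)⟩
    exact ⟨t, by rw [h4, h.ap_mul, h.ap_mul, ← map_smul]; exact congrArg _ (congrArg Subtype.val ht).symm⟩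
  have h10 : ∀ u v, h.b u (h.ap s v) = -h.b (h.ap s u) v := fun u v => by
    rw [← h.b_star, h3, Int.cast_neg, Int.cast_one, neg_one_mul, ← zero_sub s, h.ap_sub, h.sub_right]
    change _ = -(h.b u 0 - _)
    rw [h.zero_right, zero_sub, neg_neg]
  have h11 : s = 0 := h.ap_ext fun v => h.nondeg _ fun u => by
    obtain ⟨t, ht⟩ := h9 v
    obtain ⟨t', ht'⟩ := h9 u
    have h12 : 2 * h.b (h.ap s v) v = 0 := by linear_combination h10 v v + hb (h.ap s v) v
    replace h12 := (mul_eq_zero.1 h12).resolve_left h2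
    rw [ht, h.smul_left] at h12
    rcases mul_eq_zero.1 h12 with h13 | h13
    · rw [ht, h13, zero_smul, h.zero_right]
    · rw [h10, ht', h.smul_left, h13, mul_zero, neg_zero]
  rw [h11, mul_zero, zero_mul] at h5
  exact hx (Subtype.ext ((sub_eq_zero.1 (show h.ap e x - x = 0 from x.2)).symm.trans (congrArg (fun y => h.ap y x) h5)))

theorem amb_O {Q : QuadraticForm K V} (k : KO h F Q) : @Amb _ _ _ F V _ (modE h) (Fintype.card K) (finrank K V) := by
  have h7 := k.dim
  have hQ := nondeg_of_O k.o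
  have h1 := card_O_ge hQ h7
  rw [← Nat.choose_two_right] at h1
  refine amb_of k.o.1 (by omega) (fun u hu => (mem_I0_O k _).2 ?_) ?_ (fun h2 => ?_) fun h2 B r => (not_rk
    (fun u v => by rw [k.o.2.1, k.o.2.1, QuadraticMap.polar_comm]) ((two_ne_iff K).2 h2) (by omega) r).elim
  · rw [map_mul]
    exact H875.KB.sq_mem_E k.good ((map_Iso_O k.o).le ⟨u, hu, rfl⟩)
  · have h4 : ∀ x, Nat.gcd 4 x * Nat.card F.S ≤ 4 * Nat.card F.S := fun x =>
      Nat.mul_le_mul_right _ (Nat.gcd_le_left _ four_pos)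
    rcases card_S_O k with ⟨m, h2, -, h3⟩ | ⟨m, h2, hP, h3⟩ | ⟨m, h2, hP, h3⟩
    · rw [card_O_odd hQ h2] at h1
      omega
    · rw [card_O_plus hQ (by omega) h2 hP, ← h3] at h1
      have := h4 (Fintype.card K ^ m - 1)
      omega
    · rw [card_O_minus hQ (by omega) h2 hP, ← h3] at h1
      have := h4 (Fintype.card K ^ m + 1)
      omega
  · rw [card_O_eq_S_two k h2] at h1
    omega

end Cfsg.Agent.N2C.TenSO
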