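import Cfsg.Agent.N2.Cl.Cyc.Ord
import Cfsg.Agent.N2.Cl.Size
import Cfsg.Agent.TH.Cl.Ten.Red

/-!
# N2 (S3519), tensor decompositions: the kind-free part (helper92)

`TC` the context, `FM` models of the factors, `card_le` the order of the stabiliser, `Ru` idempotents of rank one,
`Cy` cyclic elements of a factor and their products, `cU_sq_le` split centralisers.
-/

set_option autoImplicit false
set_option linter.unusedSectionVars false
set_option maxHeartbeats 400000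

namespace Cfsg.Agent.N2C.TenSO

open Cfsg.Agent.DS.Cl Cfsg.Agent.DS.Cl.Fwd Cfsg.Agent.SB.Cl Module
open Cfsg.Agent.TH.Cl (Irr2 TenD)
open Cfsg.Agent.TH.Cl.Ten (TD Cz Sy cb)
open Cfsg.Agent.N2C.Cyc
open scoped Pointwise

variable {A : Type} [Ring A] [StarRing A] [Finite A]

/-- the context -/
structure TC (F : FR A) (H : Subgroup (RingAut A)) (p : ℕ) (𝓑 : Set (Subring A)) : Prop where
  c : Ctx F H p
  d : TD F 𝓑
  irr : Irr2 H
  st : ∀ γ ∈ H, ∀ B ∈ 𝓑, γ • B ∈ 𝓑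

variable {F : FR A} {H : Subgroup (RingAut A)} {p : ℕ} {𝓑 : Set (Subring A)} {B B' X : Subring A}

theorem exists_tc (c : Ctx F H p) (h : TenD H) : ∃ 𝓑, TC F H p 𝓑 := by
  obtain ⟨hI, 𝓑, t1, t2, t3, t4, t5, t6, hst⟩ := h
  have hT : Tens 𝓑 := ⟨t1, t2, t3, t4, t5, t6⟩
  replace hst : ∀ γ ∈ H, ∀ B ∈ 𝓑, γ • B ∈ 𝓑 := hst
  exact ⟨𝓑, c, ⟨c.ss, hT, fun B hB => hT.exists_l c.ss c.le_SAut hI.1.1 hst hB,
    fun B hB x hx => hT.l_cong c.ss F c.le hI.1.1 hst hB hx⟩, hI, hst⟩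

/-- a model of a factor -/
structure FM (B : Subring A) (R : Type) [Ring R] [StarRing R] where
  /-- the embedding -/
  ψ : R →+* A
  inj : Function.Injective ψ
  mem : ∀ x, x ∈ B ↔ ∃ y, ψ y = x
  st : ∀ y, ψ (star y) = star (ψ y)
  cen : ∀ y ∈ Subring.center R, ψ y ∈ Subring.center A

/-- the order of the projective conformal group -/
noncomputable def PC (R : Type) [Ring R] [StarRing R] : ℕ := Nat.card ↥(SAut R ⊓ Lin R)

namespace FM

variable {R : Type} [Ring R] [StarRing R] (f : FM B R)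

theorem mem' (y : R) : f.ψ y ∈ B := (f.mem _).2 ⟨y, rfl⟩

include f in
theorem fin : Finite R := Finite.of_injective _ f.inj

theorem exists_res {γ : RingAut A} (h1 : γ ∈ SAut A) (h2 : γ ∈ Lin A) (h3 : γ • B = B) :
    ∃ ρ : ↥(SAut R ⊓ Lin R), ∀ y, f.ψ (ρ.1 y) = γ (f.ψ y) := by
  have k1 : ∀ y, ∃ z, f.ψ z = γ (f.ψ y) := fun y => (f.mem _).1 (by
    have := (apply_mem_smul (γ := γ)).2 (f.mem' y)
    rwa [h3] at this)
  have k2 : ∀ y, ∃ z, f.ψ z = γ⁻¹ (f.ψ y) := fun y => (f.mem _).1 (mem_smul_subring.1 (by rw [h3]; exact f.mem' y))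
  choose a ha using k1
  choose b hb using k2
  let ρ : RingAut R :=
    { toFun := a
      invFun := b
      left_inv := fun y => f.inj (by rw [hb, ha, ra_inv_apply])
      right_inv := fun y => f.inj (by rw [ha, hb, ra_apply_inv])
      map_mul' := fun x y => f.inj (by rw [ha, map_mul, map_mul, map_mul, ha, ha])
      map_add' := fun x y => f.inj (by rw [ha, map_add, map_add, map_add, ha, ha]) }
  exact ⟨⟨ρ, fun y => f.inj (show f.ψ (a _) = f.ψ (star (a y)) by rw [ha, f.st, f.st, ha, h1]),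
    fun c hc => f.inj (show f.ψ (a c) = _ by rw [ha, h2 _ (f.cen c hc)])⟩, ha⟩

end FM

namespace TC

variable (T : TC F H p 𝓑)
include T

theorem comm (hB : B ∈ 𝓑) (hB' : B' ∈ 𝓑) (hne : B ≠ B') : ∀ x ∈ B, ∀ y ∈ B', x * y = y * x := T.d.t.comm B hB B' hB' hne

theorem iso (hB : B ∈ 𝓑) {u : Aˣ} (h1 : (u : A) ∈ B) (h2 : (u : A) * star (u : A) = 1) : u ∈ F.Iso := by
  obtain ⟨g, hg, e⟩ := T.d.exists_g hB (Sy.one B) h1 h2
  rwa [← Units.ext (e.trans (by simp [cb]) : (g : A) = u)]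

theorem pt (hB : B ∈ 𝓑) {u : Aˣ} (h1 : (u : A) ∈ B) (h2 : (u : A) * star (u : A) = 1) :
    cj A u ∈ ptStab (RingAut A) 𝓑 := by
  intro B' hB'
  by_cases e : B' = B
  · subst e
    have h3 : ((u⁻¹ : Aˣ) : A) ∈ B' := star_eq_inv h2 ▸ T.d.t.star_mem _ hB _ h1
    exact smul_eq_of_inv (fun x hx => mul_mem (mul_mem h1 hx) h3) fun x hx => mul_mem (mul_mem h3 hx) h1
  · exact smul_eq_of_fix (T.d.fix hB h1 hB' e)

/-- `H ⊓ F.S` is the stabiliser of the decomposition -/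
theorem mem_H (hB : B ∈ 𝓑) {y : Aˣ} (h1 : (y : A) ∈ B) (h2 : y ∈ I0 F) (hc : (y : A) ∉ Subring.center A)
    {s : RingAut A} (hs : s ∈ F.S) (h : s ∈ ptStab (RingAut A) 𝓑) : s ∈ H := by
  refine T.c.max' (M := setStab (RingAut A) 𝓑) (le_setStab T.st) (fun hS => hc (cj_eq_one_iff.1 ?_)) hs
    (le_setStab (P := ptStab (RingAut A) 𝓑) (fun g hg B hB => by rwa [hg B hB]) h)
  have h3 : cj A y ∈ F.S := ⟨y, h2, rfl⟩
  obtain ⟨B', hB', hne⟩ := T.d.t.exists_ne hB
  by_cases hK : F.S ≤ ptStab (RingAut A) 𝓑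
  · refine inf_eq_bot_of_simple T.c.simple (K := DS.Cl.Fix (B' : Set A)) (fun s hs k hk x hx => ?_) (fun hle => ?_) _ h3
      (T.d.fix hB h1 hB' hne)
    · rw [ra_mul, ra_mul, hk _ (mem_smul_subring.1 ((hK hs B' hB').symm ▸ hx)), ra_apply_inv]
    · exact T.d.t.not_le B' hB' fun z hz => FR.cen_of_S T.c.span fun s hs => hle hs z hz
  · exact inf_eq_bot_of_simple T.c.simple (fun s hs k hk => conj_mem_ptStab (hS hs) hk) hK _ h3
      (T.pt hB h1 (F.comm_le_Iso h2).1)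

theorem cen_Cz (hB : B ∈ 𝓑) {z : A} (hz : z ∈ Cz B) (hc : ∀ y ∈ Cz B, y * z = z * y) : z ∈ Subring.center A := by
  refine T.d.t.cen_of fun B' hB' y hy => ?_
  by_cases e : B' = B
  · exact hz y (e ▸ hy)
  · exact hc y (T.d.le_Cz hB hB' e hy)

/-- the order of the stabiliser -/
theorem card_le (hB : B ∈ 𝓑) {R R' : Type} [Ring R] [StarRing R] [Ring R'] [StarRing R'] (f : FM B R)
    (f' : FM (Cz B) R') : Nat.card ↥(H ⊓ F.S) ≤ 𝓑.ncard * (PC R * PC R') := by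
  have := finAut (A := A)
  have := f.fin
  have := f'.fin
  have := finAut (A := R)
  have := finAut (A := R')
  rw [← Nat.card_congr (MulAction.orbitProdStabilizerEquivGroup ↥(H ⊓ F.S) B), Nat.card_prod]
  refine Nat.mul_le_mul (Set.ncard_le_ncard ?_ (Set.toFinite _)) ?_
  · rintro _ ⟨γ, rfl⟩
    exact T.st γ γ.2.1 B hB
  have k : ∀ γ : MulAction.stabilizer ↥(H ⊓ F.S) B, (γ.1.1 : RingAut A) • B = B := fun γ => γ.2
  have k' : ∀ γ : MulAction.stabilizer ↥(H ⊓ F.S) B, ∀ x ∈ Cz B, (γ.1.1 : RingAut A) x ∈ Cz B := fun γ x hx y hy => by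
    have h1 := congrArg γ.1.1 (hx _ (mem_smul_subring.1 ((k γ).symm ▸ hy)))
    rwa [map_mul, map_mul, ra_apply_inv] at h1
  have l1 : ∀ γ : MulAction.stabilizer ↥(H ⊓ F.S) B, γ.1.1 ∈ SAut A := fun γ => T.c.le_SAut γ.1.2.1
  have l2 : ∀ γ : MulAction.stabilizer ↥(H ⊓ F.S) B, γ.1.1 ∈ Lin A := fun γ => F.PI_le_Lin (F.S_le_PI γ.1.2.2)
  choose a ha using fun γ => f.exists_res (l1 γ) (l2 γ) (k γ)
  choose b hb using fun γ => f'.exists_res (l1 γ) (l2 γ) (smul_eq_of_inv (k' γ) (k' γ⁻¹))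
  rw [PC, PC, ← Nat.card_prod]
  refine Nat.card_le_card_of_injective (fun γ => (a γ, b γ)) fun γ δ e => Subtype.ext (Subtype.ext (RingEquiv.ext fun x => ?_))
  refine T.d.t.ind (T := (γ.1.1 : A →+* A).eqLocus (δ.1.1 : A →+* A)) (fun B' hB' z hz => ?_) x
  by_cases e' : B' = B
  · obtain ⟨y, rfl⟩ := (f.mem z).1 (e' ▸ hz)
    exact (ha γ y).symm.trans ((congrArg (fun r => f.ψ (r.1 y)) (congrArg Prod.fst e)).trans (ha δ y))
  · obtain ⟨y, rfl⟩ := (f'.mem z).1 (T.d.le_Cz hB hB' e' hz)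
    exact (hb γ y).symm.trans ((congrArg (fun r => f'.ψ (r.1 y)) (congrArg Prod.snd e)).trans (hb δ y))

end TC

/-! ### idempotents of rank one -/

section ru

omit [StarRing A]

/-- `e` is an idempotent of `B` of relative rank `1 / m` -/
def Ru (B : Subring A) (m : ℕ) (e : A) : Prop :=
  ∃ (ι : Type) (_ : Fintype ι) (a b : ι → A), Fintype.card ι = m ∧ e ∈ B ∧ (∀ i, a i ∈ B) ∧ (∀ i, b i ∈ B) ∧ e * e = e ∧
    (∀ i, e * b i * a i = e) ∧ (∀ i j, i ≠ j → e * b i * a j = 0) ∧ ∑ i, a i * e * b i = 1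

variable {m m' : ℕ} {e e' : A}

theorem Ru.mem (h : Ru B m e) : e ∈ B := by
  obtain ⟨ι, _, a, b, -, h1, -⟩ := h
  exact h1

theorem Ru.mono (h : Ru B m e) (hle : B ≤ X) : Ru X m e := by
  obtain ⟨ι, _, a, b, h0, h1, h2, h3, h4⟩ := h
  exact ⟨ι, _, a, b, h0, hle h1, fun i => hle (h2 i), fun i => hle (h3 i), h4⟩

theorem ru_one (B : Subring A) : Ru B 1 1 :=
  ⟨Unit, inferInstance, fun _ => 1, fun _ => 1, rfl, one_mem _, fun _ => one_mem _, fun _ => one_mem _, mul_one 1,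
    fun _ => by simp, fun _ _ h => absurd rfl h, by simp⟩

theorem Ru.mul (h : Ru B m e) (h' : Ru B' m' e') (hc : ∀ x ∈ B, ∀ y ∈ B', x * y = y * x) (hle : B ≤ X) (hle' : B' ≤ X) :
    Ru X (m * m') (e * e') := by
  obtain ⟨ι, _, a, b, h0, h1, h2, h3, h4, h5, h6, h7⟩ := h
  obtain ⟨κ, _, a', b', k0, k1, k2, k3, k4, k5, k6, k7⟩ := h'
  have mm : ∀ x, ∀ y ∈ B', ∀ z ∈ B, ∀ w, x * y * (z * w) = x * z * (y * w) := fun x y hy z hz w => by
    rw [mul_assoc, ← mul_assoc y, ← hc z hz y hy, mul_assoc, mul_assoc]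
  have m3 : ∀ i j : ι × κ, e * e' * (b i.1 * b' i.2) * (a j.1 * a' j.2) = e * b i.1 * a j.1 * (e' * b' i.2 * a' j.2) :=
    fun i j => by rw [mm _ _ k1 _ (h3 _), mm _ _ (mul_mem k1 (k3 _)) _ (h2 _)]
  refine ⟨ι × κ, inferInstance, fun i => a i.1 * a' i.2, fun i => b i.1 * b' i.2, by rw [Fintype.card_prod, h0, k0],
    mul_mem (hle h1) (hle' k1), fun i => mul_mem (hle (h2 _)) (hle' (k2 _)), fun i => mul_mem (hle (h3 _)) (hle' (k3 _)),
    by rw [mm _ _ k1 _ h1, h4, k4], fun i => by rw [m3, h5, k5], fun i j hij => ?_, ?_⟩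
  · rw [m3]
    by_cases e1 : i.1 = j.1
    · rw [k6 _ _ fun e2 => hij (Prod.ext e1 e2), mul_zero]
    · rw [h6 _ _ e1, zero_mul]
  · rw [← mul_one (1 : A)]
    conv_rhs => rw [← h7]; arg 2; rw [h7, ← k7]
    rw [Finset.sum_mul_sum, ← Finset.sum_product', Finset.univ_product_univ]
    exact Finset.sum_congr rfl fun i _ => by rw [mm _ _ (k2 _) _ h1, mm _ _ (mul_mem (k2 _) k1) _ (h3 _)]

/-- a set on which `x ↦ x e` is injective is small -/
theorem Ru.card_le (h : Ru B m e) {Y : Type} (v : Y → A) (hv : ∀ x y, v x * e = v y * e → x = y) :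
    Nat.card Y ^ m ≤ Nat.card A := by
  obtain ⟨ι, _, a, b, h0, -, -, -, -, h5, h6, -⟩ := h
  rw [← h0, ← Nat.card_eq_fintype_card, ← Nat.card_fun]
  have k : ∀ (x : ι → Y) (j : ι), (∑ i, v (x i) * e * b i) * a j = v (x j) * e := fun x j => by
    rw [Finset.sum_mul, Finset.sum_eq_single j, mul_assoc, mul_assoc, ← mul_assoc e, h5]
    · intro i _ hi
      rw [mul_assoc, mul_assoc, ← mul_assoc e, h6 _ _ hi, mul_zero]
    · exact fun h => absurd (Finset.mem_univ j) h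
  exact Nat.card_le_card_of_injective (fun x => ∑ i, v (x i) * e * b i) fun x y hxy => funext fun j =>
    hv _ _ (by rw [← k, ← k, show ∑ i, v (x i) * e * b i = ∑ i, v (y i) * e * b i from hxy])

/-- an element commuting with `B` and killing `e` is zero -/
theorem Ru.eq_zero (h : Ru B m e) {x : A} (hx : x ∈ Cz B) (h0 : x * e = 0) : x = 0 := by
  obtain ⟨ι, _, a, b, -, -, h2, -, -, -, -, h7⟩ := h
  rw [← mul_one x, ← h7, Finset.mul_sum]
  exact Finset.sum_eq_zero fun i _ => by rw [← mul_assoc, ← mul_assoc, ← hx _ (h2 i), mul_assoc (a i), h0, mul_zero, zero_mul]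

end ru

theorem TC.pow_le (T : TC F H p 𝓑) {μ : ℕ} (h : ∀ B ∈ 𝓑, ∃ m e, μ ≤ m ∧ Ru B m e) :
    ∃ m e, μ ^ 𝓑.ncard ≤ m ∧ Ru (⊤ : Subring A) m e := by
  classical
  have k : ∀ s : Finset (Subring A), (∀ B ∈ s, B ∈ 𝓑) →
      ∃ m e, μ ^ s.card ≤ m ∧ Ru (Subring.centralizer {x | ∃ B ∈ 𝓑, B ∉ s ∧ x ∈ B}) m e := fun s => by
    induction s using Finset.induction_on with
    | empty => exact fun _ => ⟨1, 1, by simp, ru_one _⟩
    | insert B s hBs ih =>
      intro hs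
      obtain ⟨m, e, h1, h2⟩ := ih fun B' hB' => hs B' (Finset.mem_insert_of_mem hB')
      have hB := hs B (Finset.mem_insert_self B s)
      obtain ⟨m', e', h3, h4⟩ := h B hB
      refine ⟨m * m', e * e', by rw [Finset.card_insert_of_notMem hBs, pow_succ]; exact Nat.mul_le_mul h1 h3,
        h2.mul h4 (fun x hx y hy => (hx y ⟨B, hB, hBs, hy⟩).symm) ?_ ?_⟩
      · rintro x hx y ⟨B', a1, a2, a3⟩
        exact hx y ⟨B', a1, fun a => a2 (Finset.mem_insert_of_mem a), a3⟩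
      · rintro x hx y ⟨B', a1, a2, a3⟩
        exact T.comm a1 hB (fun a => a2 (a ▸ Finset.mem_insert_self _ _)) y a3 x hx
  obtain ⟨m, e, h1, h2⟩ := k (Set.toFinite 𝓑).toFinset (by simp)
  exact ⟨m, e, by rwa [Set.ncard_eq_toFinset_card], h2.mono le_top⟩

/-! ### cyclic elements -/

omit [StarRing A] [Finite A] in
theorem comm_of_cop {g g' x : A} {N N' : ℕ} (hc : g * g' = g' * g) (h : g ^ N = 1) (h' : g' ^ N' = 1) (k : N.Coprime N')
    (hx : x * (g * g') = g * g' * x) : x * g = g * x := by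
  obtain ⟨j, h1, h2⟩ := Nat.chineseRemainder k 1 0
  have h3 : (g * g') ^ j = g := by
    rw [(show Commute g g' from hc).mul_pow, pow_eq_pow_mod j h, pow_eq_pow_mod j h', h1, h2, ← pow_eq_pow_mod 1 h,
      Nat.zero_mod, pow_zero, pow_one, mul_one]
  rw [← h3]
  exact (show Commute x (g * g') from hx).pow_right j

/-- a unitary element `g` of `B` of order dividing `N` whose centraliser is detected on an idempotent of rank one -/
structure Cy (B : Subring A) (m N : ℕ) (g e : A) : Prop where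
  mem : g ∈ B
  uni : g * star g = 1
  pow : g ^ N = 1
  ru : Ru B m e
  gn : ∀ x, x * g = g * x → x * e = 0 → x = 0

variable {m m' N N' : ℕ} {g g' e e' : A}

theorem Cy.mul (h : Cy B m N g e) (h' : Cy B' m' N' g' e') (hc : ∀ x ∈ B, ∀ y ∈ B', x * y = y * x) (hle : B ≤ X)
    (hle' : B' ≤ X) (k : N.Coprime N') : Cy X (m * m') (N * N') (g * g') (e * e') := by
  have h1 := hc _ h.mem _ h'.mem
  refine ⟨mul_mem (hle h.mem) (hle' h'.mem), by rw [star_mul, mul_assoc, ← mul_assoc g', h'.uni, one_mul, h.uni],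
    by rw [(show Commute g g' from h1).mul_pow, pow_mul, h.pow, mul_comm N, pow_mul, h'.pow, one_pow, one_pow, mul_one],
    h.ru.mul h'.ru hc hle hle', fun x hx h0 => ?_⟩
  have h2 := comm_of_cop h1 h.pow h'.pow k hx
  have h3 := comm_of_cop h1.symm h'.pow h.pow k.symm (h1 ▸ hx)
  exact h.gn x h2 (h'.gn _ (by rw [mul_assoc, hc _ h.ru.mem _ h'.mem, ← mul_assoc, h3, mul_assoc]) (by rwa [mul_assoc]))

theorem Cy.cA_le (h : Cy B m N g e) : cA g ^ m ≤ Nat.card A :=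
  h.ru.card_le (fun x : {x : A // x * g = g * x} => x.1) fun x y hxy => Subtype.ext (sub_eq_zero.1
    (h.gn _ (by rw [sub_mul, mul_sub, x.2, y.2]) (by rw [sub_mul, hxy, sub_self])))

/-- **split centralisers** -/
theorem cU_sq_le {ε : A} (h1 : ε * ε = ε) (h2 : ε + star ε = 1) (h3 : ε * g = g * ε)
    (h4 : ∀ x, x * g = g * x → x * ε = ε * x) (hg : g * star g = 1) : cU g ^ 2 ≤ cA g := by
  have e1 : star ε = 1 - ε := eq_sub_of_add_eq' h2
  have key : ∀ η : A, η + star η = 1 → (∀ x, x * g = g * x → x * η = η * x) →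
      ∀ x y : {x : A // x * star x = 1 ∧ x * g = g * x}, x.1 * η = y.1 * η → x = y := fun η k1 k2 x y k => by
    have x1 := mul_eq_one_comm.1 x.2.1
    have y1 := mul_eq_one_comm.1 y.2.1
    have a1 : star y.1 * x.1 * η = η := by rw [mul_assoc, k, ← mul_assoc, y1, one_mul]
    have a2 : star x.1 * y.1 * η = η := by rw [mul_assoc, ← k, ← mul_assoc, x1, one_mul]
    have a3 : star x.1 * y.1 * g = g * (star x.1 * y.1) := by
      rw [mul_assoc, y.2.2, ← mul_assoc, star_comm hg (mul_eq_one_comm.1 hg) x.2.2, mul_assoc]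
    rw [k2 _ a3] at a2
    have a4 := congrArg star a2
    rw [star_mul, star_mul, star_star] at a4
    have a5 : star y.1 * x.1 = 1 :=
      calc star y.1 * x.1 = star y.1 * x.1 * (η + star η) := by rw [k1, mul_one]
        _ = 1 := by rw [mul_add, a1, a4, k1]
    exact Subtype.ext (calc x.1 = y.1 * star y.1 * x.1 := by rw [y.2.1, one_mul]
      _ = y.1 := by rw [mul_assoc, a5, mul_one])
  rw [sq, cU, ← Nat.card_prod]
  have e2 : ε * (1 - ε) = 0 := by rw [mul_sub, mul_one, h1, sub_self]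
  have e3 : (1 - ε) * ε = 0 := by rw [sub_mul, one_mul, h1, sub_self]
  have e4 : (1 - ε) * (1 - ε) = 1 - ε := by rw [mul_sub, mul_one, e3, sub_zero]
  have e5 : (1 - ε) * g = g * (1 - ε) := by rw [sub_mul, mul_sub, h3, one_mul, mul_one]
  refine Nat.card_le_card_of_injective (fun x => (⟨x.1.1 * ε + x.2.1 * (1 - ε), by
    rw [add_mul, mul_add, mul_assoc, h3, mul_assoc, e5,
      ← mul_assoc, ← mul_assoc, x.1.2.2, x.2.2.2, mul_assoc, mul_assoc]⟩ : {x : A // x * g = g * x})) fun x y k => ?_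
  have k1 : x.1.1 * ε + x.2.1 * (1 - ε) = y.1.1 * ε + y.2.1 * (1 - ε) := congrArg Subtype.val k
  have k2 := congrArg (· * ε) k1
  have k3 := congrArg (· * (1 - ε)) k1
  simp only [add_mul, mul_assoc, h1, e2, e3, e4, mul_zero, add_zero, zero_add] at k2 k3
  refine Prod.ext (key ε h2 h4 _ _ k2) (key (1 - ε) (by rw [← e1, star_star, add_comm, h2])
    (fun x hx => by rw [mul_sub, sub_mul, h4 x hx, mul_one, one_mul]) _ _ k3)

omit [StarRing A] [Finite A] in
theorem le_of_pow {c q M E j : ℕ} (hq : 0 < q) (hM : M ≠ 0) (h : c ^ M ≤ q ^ E) (hj : E ≤ j * M) : c ≤ q ^ j :=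
  (Nat.pow_le_pow_iff_left hM).1 (h.trans (by rw [← pow_mul]; exact Nat.pow_le_pow_right hq hj))

end Cfsg.Agent.N2C.TenSO
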