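import Cfsg.Agent.N2.Cl.TenSO.Fac

/-!
# N2 (S3519), tensor decompositions of symplectic and orthogonal spaces: the cases (helper92)
-/

set_option autoImplicit false
set_option linter.unusedSectionVars false
set_option maxHeartbeats 400000

namespace Cfsg.Agent.N2C.TenSO

open Cfsg.Agent.DS.Cl Cfsg.Agent.DS.Cl.Fwd Cfsg.Agent.SB.Cl Module
open Cfsg.Agent.TH.Cl (TenD)
open Cfsg.Agent.TH.Cl.Ten (Cz)
open Cfsg.Agent.N2C.Cyc
open scoped Pointwise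

section num

/-- the generic inequality -/
def Nu (a b r d e : ℕ) : Prop :=
  3 * (d * r ^ 2 + a * b * r) + (e + b * r * (b * r) + b * r) + 2 * (a * b * r) + 10 ≤ a * b * r * (a * b * r)

/-- the second inequality -/
def Nu2 (a b r d e : ℕ) : Prop :=
  a * b * r < 32 ∧ 3 * (d * r ^ 2 + a * b * r) + (e + b * r * (b * r) + b * r) + a * b * r + 9 ≤ a * b * r * (a * b * r)

variable {a b r e : ℕ}

theorem nuA (he : e + a = a * a) (h : 4 ≤ a ∧ 4 ≤ b ∨ 4 ≤ a ∧ 2 ≤ b ∧ 2 ≤ r ∨ 5 ≤ a ∧ 2 ≤ b ∧ 1 ≤ r ∨ 7 ≤ a ∧ 2 ≤ b) :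
    Nu a b (r + 1) ((a + 2) * b) e := by
  unfold Nu
  rcases h with ⟨h1, h2⟩ | ⟨h1, h2, h3⟩ | ⟨h1, h2, h3⟩ | ⟨h1, h2⟩ <;> obtain ⟨a, rfl⟩ := Nat.exists_eq_add_of_le' h1 <;>
    obtain ⟨b, rfl⟩ := Nat.exists_eq_add_of_le' h2 <;> (try obtain ⟨r, rfl⟩ := Nat.exists_eq_add_of_le' h3) <;>
    ring_nf at he ⊢ <;> omega

theorem nuA3 (h : 4 ≤ b ∨ 2 ≤ b ∧ 2 ≤ r) : Nu 3 b (r + 1) (3 * b) 6 := by
  unfold Nu
  rcases h with h2 | ⟨h2, h3⟩ <;> obtain ⟨b, rfl⟩ := Nat.exists_eq_add_of_le' h2 <;>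
    (try obtain ⟨r, rfl⟩ := Nat.exists_eq_add_of_le' h3) <;> ring_nf <;> omega

theorem nuB (he : e + a = a * a) (h : b + 2 ≤ a ∧ 3 ≤ b ∨ b + 3 ≤ a ∧ 2 ≤ b ∨ b + 2 ≤ a ∧ 2 ≤ b ∧ 1 ≤ r) :
    Nu a (b + 2) (r + 1) ((a + 2) * (b ^ 2 + 4)) e := by
  unfold Nu
  rcases h with ⟨h1, h2⟩ | ⟨h1, h2⟩ | ⟨h1, h2, h3⟩ <;> obtain ⟨a, rfl⟩ := Nat.exists_eq_add_of_le' h1 <;>
    obtain ⟨b, rfl⟩ := Nat.exists_eq_add_of_le' h2 <;> (try obtain ⟨r, rfl⟩ := Nat.exists_eq_add_of_le' h3) <;>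
    ring_nf at he ⊢ <;> omega

theorem nuB3 (he : e + a = a * a) (h : 5 ≤ a ∨ 4 ≤ a ∧ 1 ≤ r) : Nu a 3 (r + 1) ((a + 2) * 3) e := by
  unfold Nu
  rcases h with h2 | ⟨h2, h3⟩ <;> obtain ⟨b, rfl⟩ := Nat.exists_eq_add_of_le' h2 <;>
    (try obtain ⟨r, rfl⟩ := Nat.exists_eq_add_of_le' h3) <;> ring_nf at he ⊢ <;> omega

theorem nuB33 : Nu 3 3 (r + 1 + 1) (3 * 3) 6 := by
  unfold Nu
  ring_nf
  omega

theorem nuC (he : e + (a + 1) = (a + 1) * (a + 1))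
    (h : 4 ≤ a ∧ 4 ≤ b ∨ 2 ≤ a ∧ 8 ≤ b ∨ 2 ≤ a ∧ 6 ≤ b ∧ 1 ≤ r ∨ 2 ≤ a ∧ 4 ≤ b ∧ 2 ≤ r) : Nu a b (r + 1) (a * b) e := by
  unfold Nu
  rcases h with ⟨h1, h2⟩ | ⟨h1, h2⟩ | ⟨h1, h2, h3⟩ | ⟨h1, h2, h3⟩ <;> obtain ⟨a, rfl⟩ := Nat.exists_eq_add_of_le' h1 <;>
    obtain ⟨b, rfl⟩ := Nat.exists_eq_add_of_le' h2 <;> (try obtain ⟨r, rfl⟩ := Nat.exists_eq_add_of_le' h3) <;>
    ring_nf at he ⊢ <;> omega

theorem nuC2 : Nu 4 4 (r + 1) (4 * 6) 20 := by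
  unfold Nu
  ring_nf
  omega

theorem nuD : Nu 2 4 (r + 3 + 1) 12 6 := by
  unfold Nu
  ring_nf
  omega

theorem cop (q j : ℕ) {i : ℕ} (hi : 0 < i) : (q ^ j).Coprime (q ^ i + 1) := by
  obtain ⟨i, rfl⟩ := Nat.exists_eq_add_of_le' hi
  exact Nat.Coprime.pow_left j (by rw [pow_succ, Nat.coprime_mul_right_add_right]; exact Nat.coprime_one_right q)

theorem cop3 {q : ℕ} (j : ℕ) (h0 : 0 < q) (h : Even q) : (q ^ j * (q ^ (2 / 2) + 1)).Coprime (q - 1) := by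
  obtain ⟨t, rfl⟩ := Nat.exists_eq_add_of_le' h0
  rw [Nat.add_sub_cancel, pow_one, add_assoc]
  exact Nat.Coprime.mul_left (Nat.Coprime.pow_left j (by simp))
    (Nat.coprime_self_add_left.2 (Nat.coprime_two_left.2 (by simpa [Nat.even_add_one] using h)))

end num

variable {A : Type} [Ring A] [StarRing A] [Finite A] {F : FR A} {H : Subgroup (RingAut A)} {p : ℕ} {𝓑 : Set (Subring A)}
  {B B' X X' : Subring A} {q n a b : ℕ} {W : Type} [AddCommGroup W] [Module A W] [Finite W]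

/-- all the data -/
structure AD (F : FR A) (H : Subgroup (RingAut A)) (p : ℕ) (𝓑 : Set (Subring A)) (W : Type) [AddCommGroup W] [Module A W]
    (q n : ℕ) : Prop where
  T : TC F H p 𝓑
  M : Amb F W q n
  all : ∀ B ∈ 𝓑, ∃ a, Fac F H 𝓑 B q a

namespace AD

variable (D : AD F H p 𝓑 W q n)
include D

theorem pos : 0 < q := lt_of_lt_of_le two_pos D.M.two

theorem tle : 2 ^ 𝓑.ncard ≤ n := by
  obtain ⟨m, e, h1, h2⟩ := D.T.pow_le (μ := 2) fun B hB => by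
    obtain ⟨a, f⟩ := D.all B hB
    obtain ⟨e, he⟩ := f.ru
    exact ⟨a, e, f.two, he⟩
  exact h1.trans (Nat.le_of_dvd (by have := D.M.six; omega) (D.M.dvd _ _ _ h2))

theorem t_two (f : Fac F H 𝓑 B q a) (f' : Fac F H 𝓑 B' q b) (hne : B ≠ B') (hn : n = a * b) : 𝓑.ncard ≤ 2 := by
  refine (Set.ncard_le_ncard (t := {B, B'}) (fun X hX => ?_) (Set.toFinite _)).trans (Set.ncard_pair hne).le
  by_contra hc
  obtain ⟨h1, h2⟩ := not_or.1 hc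
  obtain ⟨c, g⟩ := D.all X hX
  obtain ⟨e, he⟩ := f.ru
  obtain ⟨e', he'⟩ := f'.ru
  obtain ⟨e'', he''⟩ := g.ru
  have h6 := D.M.six
  have h3 := Nat.le_of_dvd (by omega) (D.M.dvd _ _ _ ((he.mul he' (D.T.comm f.mem f'.mem hne) le_sup_left le_sup_right).mul he''
    (Cm.sup (D.T.comm f.mem hX (Ne.symm h1)) (D.T.comm f'.mem hX (Ne.symm h2))) le_top le_top))
  have h4 := Nat.mul_le_mul_left (a * b) g.two
  omega

theorem cz (f : Fac F H 𝓑 B q a) {k : ℕ} (hn : n = a * k) : PB (Cz B) (2 * q ^ (k + 1).choose 2) ∧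
    (Odd q → PB (Cz B) (q ^ (k + 1).choose 2)) ∧ (k ≤ 3 → PB (Cz B) (2 * q ^ 3)) := by
  obtain ⟨k', ⟨e', he'⟩, h1, h2, h3⟩ := D.T.cz D.M f.mem
  obtain ⟨e, he⟩ := f.ru
  have h6 := D.M.six
  have h4 := Nat.le_of_dvd (by omega) (D.M.dvd _ _ _ (he.mul he' (fun x hx y hy => hy x hx) le_top le_top))
  have h5 : k' ≤ k := Nat.le_of_mul_le_mul_left (hn ▸ h4) (by have := f.two; omega)
  have h7 := Nat.pow_le_pow_right D.pos (Nat.choose_le_choose 2 (Nat.succ_le_succ h5))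
  exact ⟨h1.mono (Nat.mul_le_mul_left _ h7), fun h => (h2 h).mono h7, fun h => h3 (h5.trans h)⟩

theorem X_le (hB : B ∈ 𝓑) {x y h h' t : ℕ} (k : PB B (x * q ^ h)) (k' : PB (Cz B) (y * q ^ h')) (ht : 𝓑.ncard ≤ t) :
    Nat.card ↥(H ⊓ F.S) ≤ t * (x * y) * q ^ (h + h') :=
  (D.T.card_le' hB k k').trans ((Nat.mul_le_mul_right _ ht).trans (le_of_eq (by ring)))

theorem X_all (k : ∀ B ∈ 𝓑, PB B (2 * q ^ 3)) {t : ℕ} (h0 : 0 < t) (ht : 𝓑.ncard ≤ t) :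
    Nat.card ↥(H ⊓ F.S) ≤ t ^ t * 2 ^ t * q ^ (3 * t) := by
  have := D.pos
  refine (D.T.card_le_all k).trans ((Nat.mul_le_mul ((Nat.pow_le_pow_left ht _).trans (Nat.pow_le_pow_right h0 ht))
    (Nat.pow_le_pow_right (by positivity) ht)).trans (le_of_eq ?_))
  rw [mul_pow, ← pow_mul, mul_assoc]

theorem gen (f : Fac F H 𝓑 B q a) {h N d r : ℕ} {g : Aˣ} (pb : PB B (2 * q ^ h)) (G : GE F 𝓑 X (a * b) N d g)
    (hr : n = a * b * r) (k : Nu a b r d (2 * h) ∨ 3 ≤ q ∧ Nu2 a b r d (2 * h)) : Gd F H := by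
  have h1 := two_choose (b * r + 1)
  refine G.gd f.st (TenSO.gen D.M.two (D.M.cI_le G hr) (D.X_le f.mem pb (D.cz f (hr.trans (mul_assoc _ _ _))).1 le_rfl) D.tle
    D.M.s32 ?_)
  have h2 : 2 * (h + (b * r + 1).choose 2) = 2 * h + b * r * (b * r) + b * r := by nlinarith
  rw [h2, hr]
  exact k

theorem cay2 {u s : Aˣ} {j d d' N f μ κ r : ℕ} (β : ℕ) (U : GE F 𝓑 X a (q ^ j) d u) (kr : Kr X a κ (u : A))
    (S : GE F 𝓑 X' b N d' s) (E : SE (s : A) (q ^ f) μ) (hM : 3 ≤ μ) (hc : Cm X X') (k : (q ^ j).Coprime N)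
    (hr : n = a * b * r) (hβ : n * κ < f * (β + 1) * a) : (μ - β) ^ 2 * cI F (u * s) ^ 2 ≤ μ ^ 2 * q ^ (d * d' * r ^ 2) :=
  have h1 := hc _ U.mem _ S.mem
  D.M.cay (U.mul S hc k) hr β S.uni E hM (by rw [Units.val_mul, ← mul_assoc, ← h1]) h1 (U.both S hc k) U.pow' kr hβ

/-- an orthogonal and a symplectic factor -/
theorem caseA (f : FO F H 𝓑 B q a) (f' : FSp F H 𝓑 B' q b) (hne : B ≠ B') : Gd F H := by
  have hc := D.T.comm f.mem f'.mem hne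
  obtain ⟨s, S, E, -⟩ := f'.S
  obtain ⟨k, hk⟩ := f'.ev
  have h2 := f'.two
  have h3 := f.three
  have hq : 3 ≤ q := by have := D.M.two; obtain ⟨_, _⟩ := f.odd; omega
  have h4 := two_choose a
  have ht := D.tle
  have sp : n = a * b → q ^ (n + 1).choose 2 ≤ 3 * Nat.card F.S := fun hn => D.M.sp f.odd _ (hn ▸ f.rk.mul f'.rk hc)
  by_cases ha : a = 3
  · obtain ⟨u, j, U, kr⟩ := f.U3 ha
    subst ha
    have k := cop q j (show 0 < b / 2 by omega)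
    obtain ⟨r, hr⟩ := D.M.exists_r (U.mul S hc k)
    by_cases h5 : 4 ≤ b ∨ 2 ≤ b ∧ 2 ≤ r
    · exact D.gen f.toFac f.pb (U.mul S hc k) hr (Or.inl (nuA3 h5))
    obtain rfl : b = 2 := by omega
    have h6 := D.cay2 2 U kr S E le_rfl hc k hr (by omega)
    have h7 := D.X_le f.mem f.pb (D.cz f.toFac (hr.trans (mul_assoc _ _ _))).1 (le_of_two_pow (j := 3) ht (by omega))
    obtain rfl | rfl : r = 0 ∨ r = 1 := by omega
    · subst hr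
      exact (U.mul S hc k).gd f.st (fin 5 _ _ _ 1 3 12 (f.q5 rfl) D.pos h6 h7 ((one_mul _).trans_le (sp rfl)) (by norm_num)
        (by decide) (by norm_num))
    · subst hr
      exact (U.mul S hc k).gd f.st (fin 3 _ _ _ 5 32 34 hq D.pos h6 h7 D.M.s32 (by norm_num) (by decide) (by norm_num))
  obtain ⟨u, j, U, kr⟩ := f.U
  have k := cop q j (show 0 < b / 2 by omega)
  obtain ⟨r, hr⟩ := D.M.exists_r (U.mul S hc k)
  by_cases h5 : 4 ≤ a ∧ 4 ≤ b ∨ 4 ≤ a ∧ 2 ≤ b ∧ 2 ≤ r ∨ 5 ≤ a ∧ 2 ≤ b ∧ 1 ≤ r ∨ 7 ≤ a ∧ 2 ≤ b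
  · exact D.gen f.toFac f.pb (U.mul S hc k) hr (Or.inl (nuA h4 h5))
  obtain rfl : b = 2 := by omega
  by_cases h8 : a = 4 ∧ r = 1 ∨ a = 6 ∧ r = 0
  · refine D.gen f.toFac f.pb (U.mul S hc k) hr (Or.inr ⟨hq, ?_⟩)
    rcases h8 with ⟨rfl, rfl⟩ | ⟨rfl, rfl⟩ <;> exact ⟨by decide, by decide⟩
  obtain rfl : r = 0 := by omega
  have h6 := D.cay2 2 U kr S E le_rfl hc k hr (by omega)
  have h7 := D.X_le f.mem f.pb (D.cz f.toFac (hr.trans (mul_assoc _ _ _))).1 (le_of_two_pow (j := 3) ht (by omega))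
  obtain rfl | rfl : a = 4 ∨ a = 5 := by omega
  · subst hr
    exact (U.mul S hc k).gd f.st (fin 3 _ _ _ 1 3 18 hq D.pos h6 h7 ((one_mul _).trans_le (sp rfl)) (by norm_num)
      (by decide) (by norm_num))
  · subst hr
    exact (U.mul S hc k).gd f.st (fin 3 _ _ _ 5 32 22 hq D.pos h6 h7 D.M.s32 (by norm_num) (by decide) (by norm_num))

/-- two orthogonal factors -/
theorem caseB (f : FO F H 𝓑 B q a) (f' : FO F H 𝓑 B' q b) (hne : B ≠ B') (hab : b ≤ a) : Gd F H := by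
  have hc := D.T.comm f.mem f'.mem hne
  have h2 := f'.three
  have hq : 3 ≤ q := by have := D.M.two; obtain ⟨_, _⟩ := f.odd; omega
  have h4 := two_choose a
  by_cases hb : b = 3
  · obtain ⟨z, N, z1, Z⟩ := f'.Z3 hb
    subst hb
    by_cases ha : a = 3
    · obtain ⟨u, j, U, -⟩ := f.U3 ha
      subst ha
      have G := U.mul Z hc (z1.symm.pow_left j)
      obtain ⟨r, hr⟩ := D.M.exists_r G
      rcases r with _ | r
      · have h6 := D.M.cI_le G hr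
        have h7 := D.X_le f.mem f.pb ((D.cz f.toFac (hr.trans (mul_assoc _ _ _))).2.2 le_rfl)
          (le_of_two_pow (j := 3) D.tle (by omega))
        subst hr
        exact G.gd f.st (fin 5 1 1 _ 5 32 6 (f.q5 rfl) D.pos (by rwa [one_mul, one_mul]) h7 D.M.s32 (by norm_num) (by decide)
          (by norm_num))
      · exact D.gen f.toFac f.pb G hr (Or.inl nuB33)
    obtain ⟨u, j, U, -⟩ := f.U
    have G := U.mul Z hc (z1.symm.pow_left j)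
    obtain ⟨r, hr⟩ := D.M.exists_r G
    by_cases h5 : 5 ≤ a ∨ 4 ≤ a ∧ 1 ≤ r
    · exact D.gen f.toFac f.pb G hr (Or.inl (nuB3 h4 h5))
    obtain ⟨rfl, rfl⟩ : a = 4 ∧ r = 0 := by omega
    exact D.gen f.toFac f.pb G hr (Or.inr ⟨hq, by decide, by decide⟩)
  obtain ⟨z, Z⟩ := f'.Z
  obtain ⟨u, j, U, -⟩ := f.U
  have G := U.mul Z hc ((Nat.coprime_two_right.2 f.odd).pow_left j)
  obtain ⟨r, hr⟩ := D.M.exists_r G
  obtain ⟨b, rfl⟩ := Nat.exists_eq_add_of_le' (show 2 ≤ b by omega)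
  by_cases h5 : b + 2 ≤ a ∧ 3 ≤ b ∨ b + 3 ≤ a ∧ 2 ≤ b ∨ b + 2 ≤ a ∧ 2 ≤ b ∧ 1 ≤ r
  · exact D.gen f.toFac f.pb G hr (Or.inl (nuB h4 h5))
  obtain ⟨rfl, rfl, rfl⟩ : a = 4 ∧ b = 2 ∧ r = 0 := by omega
  exact D.gen f.toFac f.pb G hr (Or.inr ⟨hq, by decide, by decide⟩)

/-- two symplectic factors -/
theorem caseC (f : FSp F H 𝓑 B q a) (f' : FSp F H 𝓑 B' q b) (hne : B ≠ B') (hU : 6 ≤ a ∨ 3 ≤ q) (hb : 4 ≤ b) : Gd F H := by
  have hc := D.T.comm f.mem f'.mem hne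
  obtain ⟨s, S, -, E⟩ := f'.S
  obtain ⟨u, j, U, kr⟩ := f.U hU
  obtain ⟨k, hk⟩ := f.ev
  obtain ⟨k', hk'⟩ := f'.ev
  have h2 := f.two
  have h4 := two_choose (a + 1)
  have k := cop q j (show 0 < b / 2 by omega)
  obtain ⟨r, hr⟩ := D.M.exists_r (U.mul S hc k)
  by_cases h5 : 4 ≤ a ∧ 4 ≤ b ∨ 2 ≤ a ∧ 8 ≤ b ∨ 2 ≤ a ∧ 6 ≤ b ∧ 1 ≤ r ∨ 2 ≤ a ∧ 4 ≤ b ∧ 2 ≤ r
  · exact D.gen f.toFac f.pb (U.mul S hc k) hr (Or.inl (nuC h4 h5))
  obtain rfl : a = 2 := by omega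
  have hq := f.q3 rfl
  by_cases h8 : b = 4 ∧ r = 1 ∨ b = 6 ∧ r = 0
  · refine D.gen f.toFac f.pb (U.mul S hc k) hr (Or.inr ⟨hq, ?_⟩)
    rcases h8 with ⟨rfl, rfl⟩ | ⟨rfl, rfl⟩ <;> exact ⟨by decide, by decide⟩
  obtain ⟨rfl, rfl⟩ : b = 4 ∧ r = 0 := by omega
  have h6 := D.cay2 1 U kr S (E le_rfl) (by norm_num) hc k hr (by omega)
  have h7 := D.t_two f.toFac f'.toFac hne hr
  have h9 := D.cz f.toFac (hr.trans (mul_assoc _ _ _))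
  subst hr
  rcases Nat.even_or_odd q with h | h
  · exact (U.mul S hc k).gd f.st (fin 3 _ _ _ 5 8 6 hq D.pos h6 (D.X_le f.mem f.pb h9.1 h7) (D.M.s8 h) (by norm_num)
      (by decide) (by norm_num))
  · exact (U.mul S hc k).gd f.st (fin 3 _ _ _ 5 32 6 hq D.pos h6 (D.X_le f.mem (x := 1) (y := 1) ((f.pbo h).mono (one_mul _).ge)
      ((h9.2.1 h).mono (one_mul _).ge) h7) D.M.s32 (by norm_num) (by decide) (by norm_num))

theorem caseC2 (f : FSp F H 𝓑 B q 4) (f' : FSp F H 𝓑 B' q 4) (hne : B ≠ B') (hq : q = 2) : Gd F H := by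
  obtain ⟨s, S, -⟩ := f.S
  obtain ⟨w, hw⟩ := f'.W rfl hq
  have G := S.mul hw (D.T.comm f.mem f'.mem hne) (by rw [hq]; decide)
  obtain ⟨r, hr⟩ := D.M.exists_r G
  exact D.gen f.toFac f.pb G hr (Or.inl nuC2)

/-- all factors have dimension two -/
theorem caseD (h : ∀ B ∈ 𝓑, FSp F H 𝓑 B q 2) : Gd F H := by
  obtain ⟨B₁, h1, B₂, h2, n12⟩ := D.T.d.t.two
  have h6 := D.M.six
  obtain ⟨B₃, h3, n31, n32⟩ : ∃ B₃ ∈ 𝓑, B₃ ≠ B₁ ∧ B₃ ≠ B₂ := by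
    by_contra hc
    have h4 := (h B₁ h1).third B₂ h2 n12.symm fun X hX => by
      by_contra h4
      exact hc ⟨X, hX, not_or.1 h4⟩
    rw [D.M.cardA, (h B₂ h2).card, ← pow_mul, Nat.pow_le_pow_iff_right D.M.two] at h4
    nlinarith
  have hq := (h B₁ h1).q3 rfl
  have st := (h B₁ h1).st
  have pb : ∀ B ∈ 𝓑, PB B (2 * q ^ 3) := fun B hB => (h B hB).pb
  have c12 := D.T.comm h1 h2 n12
  have c13 := D.T.comm h1 h3 n31.symm
  have c32 := D.T.comm h3 h2 n32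
  have big : ∀ {X N g}, GE F 𝓑 X (2 * 4) N 12 g → n ≠ 8 → Gd F H := fun G h8 => by
    obtain ⟨r, hr⟩ := D.M.exists_r G
    by_cases h9 : 3 ≤ r
    · obtain ⟨r, rfl⟩ := Nat.exists_eq_add_of_le' h9
      exact D.gen (h B₁ h1).toFac (pb _ h1) G hr (Or.inl nuD)
    have h4 := D.M.cI_le G hr
    have h5 := D.X_all pb four_pos (le_of_two_pow D.tle (by omega))
    obtain rfl | rfl : r = 1 ∨ r = 2 := by omega
    all_goals
      subst hr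
      exact G.gd st (fin 3 1 1 _ 5 32 24 hq D.pos (by rwa [one_mul, one_mul]) h5 D.M.s32 (by norm_num) (by decide) (by norm_num))
  obtain ⟨s, S, E, -⟩ := (h B₂ h2).S
  rcases Nat.even_or_odd q with ho | ho
  · obtain ⟨u, j, U, kr⟩ := (h B₁ h1).U (Or.inr hq)
    obtain ⟨l, L⟩ := (h B₃ h3).L rfl ho
    have k := cop q j (show 0 < 2 / 2 by norm_num)
    have c := Cm.sup c13 (D.T.comm h2 h3 n32.symm)
    have G := (U.mul S c12 k).mul L c (cop3 j D.pos ho)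
    by_cases h8 : n = 8
    swap
    · exact big (G.mono (by norm_num)) h8
    have h4 := c12 _ U.mem _ S.mem
    have h5 := D.M.cay G (r := 1) h8 2 S.uni E le_rfl (by
      rw [Units.val_mul, Units.val_mul, ← mul_assoc, ← mul_assoc, ← h4, mul_assoc _ (l : A), c32 _ L.mem _ S.mem, ← mul_assoc]) h4
      (fun x hx => U.both S c12 k x ((U.mul S c12 k).both L c (cop3 j D.pos ho) x hx).1) U.pow' kr (by omega)
    have h7 := D.X_all pb three_pos (le_of_two_pow D.tle (by omega))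
    subst h8
    exact G.gd st (fin 4 _ _ _ 5 8 14 (by obtain ⟨_, _⟩ := ho; omega) D.pos h5 h7 (D.M.s8 ho) (by norm_num) (by decide)
      (by norm_num))
  · obtain ⟨u, E₁, a1, a2, a3, a4, a5, a6⟩ := (h B₁ h1).P rfl ho
    obtain ⟨v, E₃, b1, b2, b3, b4, b5, b6⟩ := (h B₃ h3).P rfl ho
    obtain ⟨cd, kr⟩ := pair a1 b1 a2 b2 c13 (D.M.tu ho)
    rw [← a3, ← b3] at cd kr
    have m1 : (u : A) ∈ B₁ := a3 ▸ add_mem (one_mem _) (a2 _ _)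
    have m3 : (v : A) ∈ B₃ := b3 ▸ add_mem (one_mem _) (b2 _ _)
    have U : GE F 𝓑 (B₁ ⊔ B₃) 4 (q ^ 1) 6 (u * v) :=
      ⟨mul_mem (le_sup_left (a := B₁) m1) (le_sup_right (b := B₃) m3), mul_mem a4 b4, by rw [map_mul]; exact mul_mem a5 b5,
        by rw [pow_one, (show Commute u v from Units.ext (c13 _ m1 _ m3)).mul_pow, a6, b6, mul_one], cd⟩
    have k := cop q 1 (show 0 < 2 / 2 by norm_num)
    have c := Cm.sup c12 c32
    by_cases h8 : n = 8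
    swap
    · exact big (U.mul S c k) h8
    have h5 := D.cay2 (r := 1) 2 U kr S E le_rfl c k h8 (by omega)
    have h7 := D.X_all pb three_pos (le_of_two_pow D.tle (by omega))
    subst h8
    exact (U.mul S c k).gd st (fin 3 _ _ _ 1 3 18 hq D.pos h5 h7 ((one_mul _).trans_le (D.M.sp ho _
      (((h B₁ h1).rk.mul (h B₃ h3).rk c13).mul (h B₂ h2).rk c))) (by norm_num) (by decide) (by norm_num))

end AD

/-- **tensor decompositions** -/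
theorem core (X : Bx) (c : Ctx F H p) (h : TenD H) (M : Amb F W q n) : Gd F H := by
  obtain ⟨𝓑, T⟩ := exists_tc c h
  have k : ∀ B ∈ 𝓑, ∃ a, FSp F H 𝓑 B q a ∨ FO F H 𝓑 B q a := fun B hB => T.fac M hB X
  have D : AD F H p 𝓑 W q n := ⟨T, M, fun B hB => (k B hB).imp fun _ f => f.elim (·.toFac) (·.toFac)⟩
  by_cases hO : ∃ B a, FO F H 𝓑 B q a
  · obtain ⟨B, a, f⟩ := hO
    obtain ⟨B', hB', hne⟩ := T.d.t.exists_ne f.mem
    obtain ⟨b, f' | f'⟩ := k B' hB'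
    · exact D.caseA f f' hne.symm
    rcases le_total a b with h | h
    · exact D.caseB f' f hne h
    · exact D.caseB f f' hne.symm h
  replace k : ∀ B ∈ 𝓑, ∃ a, FSp F H 𝓑 B q a := fun B hB => (k B hB).imp fun a f => f.resolve_right fun f => hO ⟨B, a, f⟩
  by_cases h2 : ∀ B ∈ 𝓑, FSp F H 𝓑 B q 2
  · exact D.caseD h2
  push Not at h2
  obtain ⟨B, hB, h2⟩ := h2
  obtain ⟨a, f⟩ := k B hB
  obtain ⟨B', hB', hne⟩ := T.d.t.exists_ne hB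
  obtain ⟨b, f'⟩ := k B' hB'
  obtain ⟨i, hi⟩ := f.ev
  obtain ⟨j, hj⟩ := f'.ev
  have h3 := f.two
  have h4 : a ≠ 2 := fun e => h2 (e ▸ f)
  by_cases h5 : 6 ≤ b ∨ 3 ≤ q
  · exact D.caseC f' f hne h5 (by omega)
  have h6 := f'.two
  have h7 := f'.q3
  have h8 := M.two
  by_cases h9 : 6 ≤ a
  · exact D.caseC f f' hne.symm (Or.inl h9) (by omega)
  obtain ⟨rfl, rfl⟩ : a = 4 ∧ b = 4 := by omega
  exact D.caseC2 f f' hne.symm (by omega)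

theorem tenSp_of (X : Bx) : OnSp 3 pTen := fun _ V _ _ _ _ _ h _ _ _ _ k h3 c t =>
  @core _ _ _ _ _ _ _ _ _ V _ (modE h) _ X c t (amb_Sp k h3)

theorem tenO_of (X : Bx) : OnO pTen := fun _ V _ _ _ _ _ h _ _ _ _ k c t =>
  @core _ _ _ _ _ _ _ _ _ V _ (modE h) _ X c t (amb_O k)

end Cfsg.Agent.N2C.TenSO
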