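import Cfsg.Agent.N2.Cl.TenSO.Cd

/-!
# N2 (S3519), tensor decompositions: counting by Cayley transforms (helper92)

`cayley` : if the unitary element `s` is central in the commutant of `g`, then `(M - β) cU g ≤ M √(cA g)`.
-/

set_option autoImplicit false
set_option linter.unusedSectionVars false
set_option maxHeartbeats 400000

namespace Cfsg.Agent.N2C.TenSO

open Cfsg.Agent.DS.Cl Cfsg.Agent.DS.Cl.Fwd Cfsg.Agent.SB.Cl Module
open Cfsg.Agent.N2C.Cyc

variable {A W : Type} [Ring A] [Finite A] [AddCommGroup W] [Module A W] [Finite W] {B : Subring A} {m κ : ℕ} {e g : A}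

theorem Ru.card_vec (h : Ru B m e) : Nat.card {v : W // e • v = v} ^ m = Nat.card W := by
  obtain ⟨ι, _, a, b, h0, -, -, -, h4, h5, h6, h7⟩ := h
  rw [← h0, ← Nat.card_eq_fintype_card, ← Nat.card_fun]
  refine Nat.card_eq_of_bijective (fun x => ∑ i, a i • (x i).1) ⟨fun x y hxy => funext fun j => Subtype.ext ?_, fun v =>
    ⟨fun i => ⟨(e * b i) • v, by rw [← mul_smul, ← mul_assoc, h4]⟩, ?_⟩⟩
  · have k : ∀ x : ι → {v : W // e • v = v}, (e * b j) • ∑ i, a i • (x i).1 = x j := fun x => by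
      rw [Finset.smul_sum, Finset.sum_eq_single j, ← mul_smul, h5, (x j).2]
      · exact fun i _ hi => by rw [← mul_smul, h6 _ _ hi.symm, zero_smul]
      · exact fun h => absurd (Finset.mem_univ j) h
    rw [← k, ← k, show ∑ i, a i • (x i).1 = ∑ i, a i • (y i).1 from hxy]
  · simp only [← mul_smul, ← mul_assoc]
    rw [← Finset.sum_smul, h7, one_smul]

theorem Kr.card_le (h : Kr B m κ g) : Nat.card {v : W // g • v = v} ^ m ≤ Nat.card W ^ κ := by
  obtain ⟨e, r, ι, _, α, β, σ, h1, h2, h3⟩ := h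
  have : Nonempty {v : W // e • v = v} := ⟨⟨0, smul_zero e⟩⟩
  have k : ∀ v : {v : W // g • v = v}, v.1 = ∑ l, β l • α l • v.1 := fun v => by
    conv_lhs => rw [← one_smul A v.1, ← h3, add_smul, mul_smul, sub_smul, v.2, one_smul, sub_self, smul_zero, zero_add,
      Finset.sum_smul]
    simp only [mul_smul]
  have h5 : Nat.card {v : W // g • v = v} ≤ Nat.card {v : W // e • v = v} ^ κ := by
    refine le_trans ?_ (Nat.pow_le_pow_right Nat.card_pos h1)
    rw [← Nat.card_eq_fintype_card, ← Nat.card_fun]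
    exact Nat.card_le_card_of_injective (fun v l => ⟨α l • v.1, by rw [← mul_smul, h2]⟩) fun x y hxy => Subtype.ext (by
      rw [k x, k y]
      exact Finset.sum_congr rfl fun l _ => congrArg _ (Subtype.mk.inj (congrFun hxy l)))
  refine (Nat.pow_le_pow_left h5 _).trans (le_of_eq ?_)
  rw [← pow_mul, mul_comm, pow_mul, r.card_vec]

omit [Finite A] [Finite W] in
theorem unit_smul {a : A} (h : IsUnit a) {v : W} (h0 : a • v = 0) : v = 0 := by
  obtain ⟨u, rfl⟩ := h
  rw [← one_smul A v, ← u.inv_mul, mul_smul, h0, smul_zero]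

omit [Finite A] [Finite W] in
/-- eigenvectors are independent -/
theorem indep {ι : Type} {x : A} {z : ι → A} (h1 : ∀ i, x * z i = z i * x) (h2 : ∀ i j, z i * z j = z j * z i) (D : Finset ι)
    (h3 : ∀ i ∈ D, ∀ j ∈ D, i ≠ j → IsUnit (z i - z j)) :
    ∀ w : ι → W, (∀ i ∈ D, x • w i = z i • w i) → ∑ i ∈ D, w i = 0 → ∀ i ∈ D, w i = 0 := by
  classical
  induction D using Finset.induction_on with
  | empty => simp
  | insert j D hj ih =>
    intro w hw h0
    rw [Finset.sum_insert hj] at h0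
    have m1 := @Finset.mem_insert_of_mem _ _ D
    have k : ∀ i ∈ D, w i = 0 := fun i hi => by
      refine unit_smul (h3 i (m1 hi) j (Finset.mem_insert_self _ _) fun e => hj (e ▸ hi))
        (ih (fun a ha b hb => h3 a (m1 ha) b (m1 hb)) (fun i => (z i - z j) • w i) (fun i hi => ?_) ?_ i hi)
      · rw [← mul_smul, mul_sub, h1, h1, ← sub_mul, mul_smul, hw i (m1 hi), ← mul_smul, ← mul_smul, sub_mul, mul_sub, h2 j]
      · have h4 := congrArg ((x - z j) • ·) h0
        simp only [smul_add, Finset.smul_sum, smul_zero, sub_smul] at h4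
        rw [hw j (Finset.mem_insert_self _ _), sub_self, zero_add] at h4
        rw [← h4]
        exact Finset.sum_congr rfl fun i hi => by rw [sub_smul, hw i (m1 hi)]
    intro i hi
    rcases Finset.mem_insert.1 hi with rfl | hi
    · rwa [Finset.sum_eq_zero k, add_zero] at h0
    · exact k i hi

omit [Finite A] [Finite W] in
theorem exists_fix {a t : A} (hc : a * t = t * a) (j : ℕ) : ∀ v : W, v ≠ 0 → a • v = 0 → t ^ j • v = 0 →
    ∃ w : W, w ≠ 0 ∧ a • w = 0 ∧ t • w = 0 := by
  induction j with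
  | zero => exact fun v h0 _ h => absurd (by simpa using h) h0
  | succ j ih =>
    intro v h0 h1 h2
    by_cases h3 : t • v = 0
    · exact ⟨v, h0, h1, h3⟩
    · exact ih _ h3 (by rw [← mul_smul, hc, mul_smul, h1, smul_zero]) (by rwa [← mul_smul, ← pow_succ])

variable [StarRing A]

omit [Finite A] in
theorem tr_inv {x : A} (hx : x * star x = 1) {w : Aˣ} (hw : (w : A) = 1 - x) :
    ((w⁻¹ : Aˣ) : A) + star ((w⁻¹ : Aˣ) : A) = 1 := by
  have h1 : star (w : A) * star ((w⁻¹ : Aˣ) : A) = 1 := by rw [← star_mul, Units.inv_mul, star_one]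
  have h2 : (w : A) = -(x * star (w : A)) := by rw [hw, star_sub, star_one, mul_sub, mul_one, hx, neg_sub]
  refine w.isUnit.mul_left_cancel ?_
  rw [mul_add, w.mul_inv, mul_one]
  conv_lhs => rw [h2, neg_mul, mul_assoc, h1, mul_one]
  rw [hw, sub_eq_add_neg]

omit [StarRing A] [Finite A] in
theorem inv_comm {w : Aˣ} {x : A} (h : x * w = w * x) : x * (w⁻¹ : Aˣ) = (w⁻¹ : Aˣ) * x :=
  (show Commute x (w : A) from h).units_inv_right

omit [StarRing A] in
/-- an element generating a field with at least `Q` elements, of order at least `M` -/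
structure SE (s : A) (Q M : ℕ) : Prop where
  fld : ∃ (ι : Type) (ζ : ι → A), Q ≤ Nat.card ι ∧ (∀ i x, x * s = s * x → x * ζ i = ζ i * x) ∧
    ∀ i j, i ≠ j → IsUnit (ζ i - ζ j)
  pw : ∀ j, 0 < j → j < M → IsUnit (s ^ j - 1)

theorem cS_sq_le {s : A} (hs : s * star s = 1) (h2 : IsUnit (s ^ 2 - 1)) (hsg : s * g = g * s)
    (k : ∀ x, x * g = g * x → x * s = s * x) : cS g ^ 2 ≤ cA g := by
  have hs' := mul_eq_one_comm.1 hs
  have e1 : s ^ 2 - 1 = (1 - s) * -(s + 1) := by noncomm_ring
  obtain ⟨w, hw⟩ := (IsUnit.mul_iff.1 (e1 ▸ h2)).1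
  have h3 := tr_inv hs hw
  have h4 : ∀ x, x * s = s * x → x * (w⁻¹ : Aˣ) = (w⁻¹ : Aˣ) * x := fun x hx =>
    inv_comm (by rw [hw, mul_sub, sub_mul, hx, mul_one, one_mul])
  have h5 : ∀ x, x * s = s * x → x * star s = star s * x := fun x hx => by
    rw [← one_mul (x * _), ← hs', mul_assoc, ← mul_assoc s, ← hx, mul_assoc x, hs, mul_one]
  have h6 : IsUnit (s - star s) := by
    refine (IsUnit.mul_iff.1 (show IsUnit (s * (s - star s)) from ?_)).2
    rwa [mul_sub, hs, ← sq]
  have h7 : ∀ x y : {x : A // star x = -x ∧ x * g = g * x}, (w⁻¹ : Aˣ) * x.1 + (s - star s) * y.1 -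
      star ((w⁻¹ : Aˣ) * x.1 + (s - star s) * y.1) = x.1 := fun x y => by
    rw [star_add, star_mul, star_mul, x.2.1, y.2.1, star_sub, star_star, eq_sub_of_add_eq' h3, neg_mul, neg_mul, mul_sub,
      mul_sub, h4 _ (k _ x.2.2), h5 _ (k _ y.2.2), k _ y.2.2]
    noncomm_ring
  rw [sq, cS, ← Nat.card_prod]
  refine Nat.card_le_card_of_injective (fun x => (⟨(w⁻¹ : Aˣ) * x.1.1 + (s - star s) * x.2.1, ?_⟩ : {x : A // x * g = g * x}))
    fun x y e => ?_
  · have e0 : (s - star s) * g = g * (s - star s) := by rw [sub_mul, mul_sub, hsg, h5 g hsg.symm]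
    rw [add_mul, mul_add, mul_assoc, x.1.2.2, ← mul_assoc, ← h4 g hsg.symm, mul_assoc, mul_assoc, x.2.2.2, ← mul_assoc _ g,
      e0, mul_assoc]
  · have e2 := Subtype.mk.inj e
    have e3 : x.1.1 = y.1.1 := by rw [← h7 x.1 x.2, e2, h7]
    rw [e3] at e2
    exact Prod.ext (Subtype.ext e3) (Subtype.ext (h6.mul_left_cancel (add_left_cancel e2)))

/-- **Cayley count** -/
theorem cayley (hW : ∀ a : A, (∀ v : W, a • v = 0 → v = 0) → IsUnit a) {s u : A} {Q M β : ℕ} (hs : s * star s = 1)
    (E : SE s Q M) (hM : 3 ≤ M) (hg : g * star g = 1) (hsg : s * g = g * s) (hus : u * s = s * u)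
    (k : ∀ x, x * g = g * x → x * u = u * x ∧ x * s = s * x) (hn : IsNilpotent (u - 1))
    (hβ : Nat.card {v : W // u • v = v} < Q ^ (β + 1)) : ((M - β) * cU g) ^ 2 ≤ M ^ 2 * cA g := by
  classical
  have hs' := mul_eq_one_comm.1 hs
  have h2 := E.pw 2 two_pos hM
  obtain ⟨c, hc, hc'⟩ : ∃ c, c * g = g * c ∧ c + star c = 1 := by
    have e1 : s ^ 2 - 1 = (1 - s) * -(s + 1) := by noncomm_ring
    obtain ⟨w, hw⟩ := (IsUnit.mul_iff.1 (e1 ▸ h2)).1
    exact ⟨_, (inv_comm (by rw [hw, mul_sub, sub_mul, hsg, mul_one, one_mul])).symm, tr_inv hs hw⟩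
  have p1 : ∀ j, s ^ j * star (s ^ j) = 1 := fun j => by rw [star_pow, ← (show Commute s (star s) from hs.trans hs'.symm).mul_pow,
    hs, one_pow]
  have p2 : ∀ j x, x * s = s * x → x * s ^ j = s ^ j * x := fun j x hx => (show Commute x s from hx).pow_right j
  have key : (M - β) * cU g ≤ M * cS g := by
    have := Fintype.ofFinite {x : A // x * star x = 1 ∧ x * g = g * x}
    rw [cU, Nat.card_eq_fintype_card, ← Finset.card_univ, mul_comm]
    conv_rhs => rw [← Finset.card_range M]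
    refine Finset.card_mul_le_card_mul (fun x j => IsUnit (x.1 - s ^ j)) (fun x _ => ?_) fun j _ => ?_
    · by_contra hcon
      have h3 := Finset.card_filter_add_card_filter_not (s := Finset.range M) fun j => IsUnit (x.1 - s ^ j)
      rw [Finset.card_range] at h3
      obtain ⟨D, hD, hD'⟩ := Finset.exists_subset_card_eq (s := (Finset.range M).filter fun j => ¬ IsUnit (x.1 - s ^ j))
        (n := β + 1) (by rw [Finset.bipartiteAbove] at hcon; omega)
      obtain ⟨ι, ζ, z1, z2, z3⟩ := E.fld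
      obtain ⟨x1, x2⟩ := k _ x.2.2
      have h4 : ∀ j, ∃ w : W, j ∈ D → w ≠ 0 ∧ (x.1 - s ^ j) • w = 0 ∧ (u - 1) • w = 0 := fun j => by
        by_cases hj : j ∈ D
        · have h5 := mt (hW _) (Finset.mem_filter.1 (hD hj)).2
          push Not at h5
          obtain ⟨v, h6, h7⟩ := h5
          obtain ⟨i, hi⟩ := hn
          obtain ⟨w, h8⟩ := exists_fix (a := x.1 - s ^ j) (t := u - 1)
            ((Commute.sub_left x1 (p2 j u hus).symm).sub_right (Commute.one_right _)) i v h7 h6 (by rw [hi, zero_smul])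
          exact ⟨w, fun _ => h8⟩
        · exact ⟨0, fun h => absurd h hj⟩
      choose w hw using h4
      have h5 : ∀ j ∈ D, u • w j = w j := fun j hj => by simpa only [sub_smul, one_smul, sub_eq_zero] using (hw j hj).2.2
      have h6 : ∀ j ∈ D, x.1 • w j = s ^ j • w j := fun j hj => by simpa only [sub_smul, sub_eq_zero] using (hw j hj).2.1
      have h7 : ∀ i ∈ D, ∀ j ∈ D, i ≠ j → IsUnit (s ^ i - s ^ j) := by
        have h8 : ∀ i ∈ D, ∀ j, j < i → IsUnit (s ^ i - s ^ j) := fun i hi j hj => by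
          obtain ⟨l, rfl⟩ := Nat.exists_eq_add_of_le hj.le
          have := Finset.mem_range.1 (Finset.mem_filter.1 (hD hi)).1
          rw [pow_add, ← mul_sub_one]
          exact (IsUnit.of_mul_eq_one _ (p1 j)).mul (E.pw l (by omega) (by omega))
        intro i hi j hj hij
        rcases hij.lt_or_gt with h9 | h9
        · rw [← neg_sub]
          exact (h8 j hj i h9).neg
        · exact h8 i hi j h9
      refine hβ.not_ge ((Nat.pow_le_pow_left z1 _).trans ?_)
      rw [← hD', ← Nat.card_eq_finsetCard, ← Nat.card_fun]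
      refine Nat.card_le_card_of_injective (fun f => ⟨∑ j : D, ζ (f j) • w j, ?_⟩) fun f f' e => funext fun j => ?_
      · rw [Finset.smul_sum]
        exact Finset.sum_congr rfl fun j _ => by rw [← mul_smul, z2 _ _ hus, mul_smul, h5 j j.2]
      · by_contra h8
        refine (hw j j.2).1 (unit_smul (z3 _ _ h8) (indep (z := fun j : D => s ^ (j : ℕ)) (fun i => p2 _ _ x2)
          (fun i j => p2 _ _ (p2 _ _ rfl).symm) Finset.univ (fun i _ j _ hij => h7 i i.2 j j.2 fun e => hij (Subtype.ext e))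
          (fun j => (ζ (f j) - ζ (f' j)) • w j) (fun i _ => ?_) ?_ j (Finset.mem_univ j)))
        · have h9 : ∀ y, y * s = s * y → y • (ζ (f i) - ζ (f' i)) • w i = (ζ (f i) - ζ (f' i)) • y • w i := fun y hy => by
            rw [← mul_smul, ← mul_smul, mul_sub, sub_mul, z2 _ _ hy, z2 _ _ hy]
          rw [h9 _ x2, h9 _ (p2 _ _ rfl).symm, h6 i i.2]
        · simp only [sub_smul, Finset.sum_sub_distrib]
          exact sub_eq_zero.2 (Subtype.mk.inj e)
    · have h3 : ∀ x : Finset.bipartiteBelow (fun (x : {x : A // x * star x = 1 ∧ x * g = g * x}) j => IsUnit (x.1 - s ^ j))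
          Finset.univ j, ∃ w : Aˣ, (w : A) = 1 - star (s ^ j) * x.1.1 := fun x => by
        have h4 := ((IsUnit.of_mul_eq_one _ (mul_eq_one_comm.1 (p1 j))).mul (Finset.mem_filter.1 x.2).2).neg
        rwa [mul_sub, mul_eq_one_comm.1 (p1 j), neg_sub] at h4
      choose w hw using h3
      have h4 : star (s ^ j) * g = g * star (s ^ j) := star_comm hg (mul_eq_one_comm.1 hg) (p2 j g hsg.symm).symm
      rw [← Nat.card_eq_finsetCard, cS]
      refine Nat.card_le_card_of_injective (fun x => ⟨((w x)⁻¹ : Aˣ) - c, ?_, ?_⟩) fun x y e => Subtype.ext (Subtype.ext ?_)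
      · have h5 : star (s ^ j) * x.1.1 * star (star (s ^ j) * x.1.1) = 1 := by
          rw [star_mul, star_star, mul_assoc, ← mul_assoc x.1.1, x.1.2.1, one_mul, mul_eq_one_comm.1 (p1 j)]
        rw [star_sub, eq_sub_of_add_eq' (tr_inv h5 (hw x)), eq_sub_of_add_eq' hc']
        abel
      · rw [sub_mul, mul_sub, hc, inv_comm (w := w x) (x := g) (by
          rw [hw, mul_sub, sub_mul, mul_one, one_mul, mul_assoc, x.1.2.2, ← mul_assoc, ← mul_assoc, h4])]
      · have h5 : w x = w y := inv_injective (Units.ext (sub_left_inj.1 (Subtype.mk.inj e)))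
        have h6 := (hw x).symm.trans (h5 ▸ hw y)
        exact (IsUnit.of_mul_eq_one _ (mul_eq_one_comm.1 (p1 j))).mul_left_cancel (sub_right_inj.1 h6)
  refine (Nat.pow_le_pow_left key 2).trans ?_
  rw [mul_pow]
  exact Nat.mul_le_mul_left _ (cS_sq_le hs h2 hsg fun x hx => (k x hx).2)

end Cfsg.Agent.N2C.TenSO
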