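import Cfsg.Agent.N2.Cl.Cyc.Vec
import Cfsg.Agent.N2.Cl.Cyc.Ord

/-!
# N2 (S3519), tensor decompositions: elements of the factors, interface (helper92)
-/

set_option autoImplicit false
set_option linter.unusedSectionVars false

namespace Cfsg.Agent.N2C.TenSO

open Cfsg.Agent.DS.Cl Cfsg.Agent.DS.Cl.Fwd Module
open Cfsg.Agent.N2C.Cyc
open scoped commutatorElement

/-- the group generated by the squares of the unitary elements -/
def Sq (R : Type) [Ring R] [StarRing R] : Subgroup Rˣ :=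
  Subgroup.closure {g | ∃ u : Rˣ, (u : R) * star (u : R) = 1 ∧ g = u * u}

section ring

variable {R : Type} [Ring R] [StarRing R] {u v : Rˣ}

theorem sq_mem (hu : (u : R) * star (u : R) = 1) : u * u ∈ Sq R := Subgroup.subset_closure ⟨u, hu, rfl⟩

theorem uni_mul (hu : (u : R) * star (u : R) = 1) (hv : (v : R) * star (v : R) = 1) :
    ((u * v : Rˣ) : R) * star ((u * v : Rˣ) : R) = 1 := by
  rw [Units.val_mul, star_mul, mul_assoc, ← mul_assoc (v : R), hv, one_mul, hu]

theorem uni_inv (hu : (u : R) * star (u : R) = 1) : ((u⁻¹ : Rˣ) : R) * star ((u⁻¹ : Rˣ) : R) = 1 := by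
  rw [star_eq_inv hu, star_star, ← star_eq_inv hu, Units.inv_mul]

theorem uni_pow (hu : (u : R) * star (u : R) = 1) (j : ℕ) : ((u ^ j : Rˣ) : R) * star ((u ^ j : Rˣ) : R) = 1 := by
  induction j with
  | zero => simp
  | succ j ih => rw [pow_succ]; exact uni_mul ih hu

theorem uni_of_sq (hu : u ∈ Sq R) : (u : R) * star (u : R) = 1 := by
  induction hu using Subgroup.closure_induction with
  | mem g hg =>
    obtain ⟨u, hu, rfl⟩ := hg
    exact uni_mul hu hu
  | one => simp
  | mul a b _ _ ha hb => exact uni_mul ha hb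
  | inv a _ ha => exact uni_inv ha

/-- elements of odd order -/
theorem sq_of_odd (hu : (u : R) * star (u : R) = 1) {N : ℕ} (hN : Odd N) (h : u ^ N = 1) : u ∈ Sq R := by
  obtain ⟨j, rfl⟩ := hN
  have h1 := sq_mem (uni_pow hu (j + 1))
  rwa [← pow_add, show j + 1 + (j + 1) = 2 * j + 1 + 1 by ring, pow_succ, h, one_mul] at h1

/-- commutators -/
theorem sq_of_comm {F : FR R} (hu : u ∈ (⁅F.Iso, F.Iso⁆ : Subgroup Rˣ)) : u ∈ Sq R := by
  refine Subgroup.commutator_le.2 (fun a ha b hb => ?_) hu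
  have h1 := mul_mem (mul_mem (sq_mem ha.1) (sq_mem (mul_mem (inv_mem ha) hb).1)) (sq_mem (inv_mem hb).1)
  rwa [show a * a * (a⁻¹ * b * (a⁻¹ * b)) * (b⁻¹ * b⁻¹) = ⁅a, b⁆ by rw [commutatorElement_def]; group] at h1

end ring

variable {K V : Type} [Field K] [Fintype K] [AddCommGroup V] [Module K V] [Finite V]

/-- alternating bilinear forms -/
def Alt (h : HF K V) : Prop := (∀ c, h.τ c = c) ∧ ∀ v, h.b v v = 0

/-- symmetric bilinear forms in odd characteristic -/
def Sym (h : HF K V) : Prop := (∀ c, h.τ c = c) ∧ (∀ u v, h.b u v = h.b v u) ∧ (2 : K) ≠ 0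

/-- a non-central element of order dividing `N` whose commutant has dimension at most `d` -/
structure El (h : HF K V) (g : h.EBˣ) (N d : ℕ) : Prop where
  sq : g ∈ Sq h.EB
  pow : g ^ N = 1
  cen : (g : h.EB) ∉ Subring.center h.EB
  ca : cA (g : h.EB) ≤ Fintype.card K ^ d

/-- the fixed space has dimension at most `κ` -/
def Fx (h : HF K V) (g : h.EB) (κ : ℕ) : Prop := Nat.card {v : V // h.ap g v = v} ≤ Fintype.card K ^ κ

/-- a statement about all forms -/
def All (P : ∀ (K V : Type) [Field K] [Fintype K] [AddCommGroup V] [Module K V] [Finite V], HF K V → Prop) : Prop :=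
  ∀ (K V : Type) [Field K] [Fintype K] [AddCommGroup V] [Module K V] [Finite V] (h : HF K V), P K V h

/-- regular unipotent elements, symplectic -/
def BoxUSp : Prop := All fun K V _ _ _ _ _ h => Alt h → ∀ k, finrank K V = 2 * k → 1 ≤ k → (3 ≤ k ∨ 3 ≤ Fintype.card K) →
  ∃ u j, El h u (Fintype.card K ^ j) (2 * k) ∧ Fx h u 1

/-- regular unipotent elements, orthogonal: blocks `a` or `(a - 1, 1)` -/
def BoxUO : Prop := All fun K V _ _ _ _ _ h => Sym h → 3 ≤ finrank K V →
  (∃ u j, El h u (Fintype.card K ^ j) (finrank K V + 2) ∧ Fx h u 2) ∧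
  (Odd (finrank K V) → ∃ u j, El h u (Fintype.card K ^ j) (finrank K V) ∧ Fx h u 1)

/-- Singer elements (the square of a generator; an element of order four in `Sp₂(3)`) -/
def BoxSSp : Prop := All fun K V _ _ _ _ _ h => Alt h → ∀ k, finrank K V = 2 * k → 1 ≤ k → (2 ≤ k ∨ 3 ≤ Fintype.card K) →
  ∃ s, El h s (Fintype.card K ^ k + 1) (2 * k) ∧ IrrV (h.ap s) ∧ ∀ j, 0 < j → (j ≤ 2 ∨ (2 ≤ k ∧ j ≤ 4)) → s ^ j ≠ 1

/-- `diag (c, c⁻¹)` in `Sp₂(2^f)`; an element of order three moving only a plane in `Sp₄(2)` -/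
def BoxLW : Prop := All fun K V _ _ _ _ _ h => Alt h →
  (finrank K V = 2 → Even (Fintype.card K) → 4 ≤ Fintype.card K → ∃ l, El h l (Fintype.card K - 1) 2) ∧
  (finrank K V = 4 → Fintype.card K = 2 → ∃ w, El h w 3 6)

/-- squares of rotations of a plane -/
def BoxZO : Prop := All fun K V _ _ _ _ _ h => Sym h →
  (3 ≤ finrank K V → ∃ z, El h z 2 ((finrank K V - 2) ^ 2 + 4)) ∧
  (finrank K V = 3 → 5 ≤ Fintype.card K → ∃ z N, N.Coprime (Fintype.card K) ∧ El h z N 3)

/-- the factors `O₂(q)`, `Sp₂(2)`, `O₃(3)` have a characteristic commutative subring -/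
def BoxX : Prop := All fun K V _ _ _ _ _ h =>
  (Sym h → finrank K V = 2 → (∀ x y : h.EB, star x = -x → star y = -y → x * y = y * x) ∧
    ∃ x : h.EB, star x = -x ∧ x ∉ Subring.center h.EB) ∧
  (Alt h → finrank K V = 2 → Fintype.card K = 2 → (∀ x y : h.EB, x * x + x + 1 = 0 → y * y + y + 1 = 0 → x * y = y * x) ∧
    ∃ x : h.EB, x * x + x + 1 = 0 ∧ x ∉ Subring.center h.EB) ∧
  (Sym h → finrank K V = 3 → Fintype.card K = 3 →
    (∀ x y : h.EB, star x = -x → star y = -y → x * x * x = -x → y * y * y = -y → x * x * (y * y) = y * y * (x * x)) ∧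
    ∃ x : h.EB, star x = -x ∧ x * x * x = -x ∧ x * x ∉ Subring.center h.EB)

end Cfsg.Agent.N2C.TenSO
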