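import Cfsg.Agent.N2.Cl.TenSO.Base
import Cfsg.Agent.N2.Cl.TenSO.Ifc

/-!
# N2 (S3519), tensor decompositions: commutants and fixed spaces of elements of a factor (helper92)

`Cd B m d g` : the commutant of `g` is detected by `d` coefficients; `Kr B m κ g` : the same for the fixed space;
`Rk B m ε` : a symmetric or skew element of rank one.
-/

set_option autoImplicit false
set_option linter.unusedSectionVars false
set_option maxHeartbeats 400000

namespace Cfsg.Agent.N2C.TenSO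

open Cfsg.Agent.DS.Cl Cfsg.Agent.DS.Cl.Fwd Cfsg.Agent.SB.Cl Module
open Cfsg.Agent.TH.Cl.Ten (Cz)
open Cfsg.Agent.N2C.Cyc

section ring

variable {A : Type} [Ring A] [Finite A] {B B' : Subring A} {m m' d d' : ℕ} {g g' e : A}

theorem Ru.card_mid (h : Ru B m e) : Nat.card {y : A // e * y * e = y} ^ (m ^ 2) ≤ Nat.card A := by
  obtain ⟨ι, _, a, b, h0, -, -, -, h4, h5, h6, -⟩ := h
  rw [← h0, ← Nat.card_eq_fintype_card, sq, pow_mul, ← Nat.card_fun, ← Nat.card_fun]
  have k : ∀ (x : ι → ι → {y : A // e * y * e = y}) (k l : ι),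
      e * b k * (∑ i, ∑ j, a i * (x i j).1 * b j) * a l = x k l := fun x k l => by
    have k1 : ∀ i j, e * b k * (a i * (x i j).1 * b j) * a l = e * b k * a i * (x i j).1 * (e * b j * a l) := fun i j => by
      conv_lhs => rw [← (x i j).2]
      conv_rhs => rw [← (x i j).2]
      simp only [mul_assoc]
      rw [← mul_assoc e e, h4]
    simp only [Finset.mul_sum, Finset.sum_mul, k1]
    rw [Finset.sum_eq_single k, Finset.sum_eq_single l, h5, h5, (x k l).2]
    · exact fun j _ hj => by rw [h6 _ _ hj, mul_zero]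
    · exact fun h => absurd (Finset.mem_univ l) h
    · exact fun i _ hi => Finset.sum_eq_zero fun j _ => by rw [h6 _ _ hi.symm, zero_mul, zero_mul]
    · exact fun h => absurd (Finset.mem_univ k) h
  exact Nat.card_le_card_of_injective (fun x => ∑ i, ∑ j, a i * (x i j).1 * b j) fun x y hxy => funext₂ fun i j =>
    Subtype.ext (by rw [← k, ← k, show ∑ i, ∑ j, a i * (x i j).1 * b j = ∑ i, ∑ j, a i * (y i j).1 * b j from hxy])

/-- the commutant of `g` is detected by `d` coefficients -/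
def Cd (B : Subring A) (m d : ℕ) (g : A) : Prop :=
  ∃ e, Ru B m e ∧ ∃ (ι : Type) (_ : Fintype ι) (Λ : ι → A →+ A), Fintype.card ι ≤ d ∧ (∀ l x, e * Λ l x * e = Λ l x) ∧
    (∀ l x, ∀ c ∈ Cz B, Λ l (c * x) = c * Λ l x ∧ Λ l (x * c) = Λ l x * c) ∧
    ∀ x, x * g = g * x → (∀ l, Λ l x = 0) → x = 0

theorem Cd.mono (h : Cd B m d g) (hd : d ≤ d') : Cd B m d' g := by
  obtain ⟨e, r, ι, _, Λ, h1, h2⟩ := h
  exact ⟨e, r, ι, _, Λ, h1.trans hd, h2⟩

theorem Cd.mul (h : Cd B m d g) (h' : Cd B' m' d' g') (hc : ∀ x ∈ B, ∀ y ∈ B', x * y = y * x) (hg : g' ∈ B')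
    (k : ∀ x, x * (g * g') = g * g' * x → x * g = g * x ∧ x * g' = g' * x) : Cd (B ⊔ B') (m * m') (d * d') (g * g') := by
  obtain ⟨e, r, ι, _, Λ, h1, h2, h3, h4⟩ := h
  obtain ⟨e', r', ι', _, Λ', k1, k2, k3, k4⟩ := h'
  have a1 : e ∈ Cz B' := fun y hy => (hc e r.mem y hy).symm
  have a2 : g' ∈ Cz B := fun y hy => hc y hy g' hg
  refine ⟨e * e', r.mul r' hc le_sup_left le_sup_right, ι × ι', inferInstance, fun l => (Λ' l.2).comp (Λ l.1),
    by rw [Fintype.card_prod]; exact Nat.mul_le_mul h1 k1, fun l x => ?_, fun l x c hc' => ?_, fun x hx h0 => ?_⟩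
  · change e * e' * Λ' _ (Λ _ x) * (e * e') = Λ' _ (Λ _ x)
    conv_lhs => rw [hc e r.mem e' r'.mem]; rw [← hc e r.mem e' r'.mem]; arg 2; rw [hc e r.mem e' r'.mem]
    rw [← mul_assoc, mul_assoc e, mul_assoc e, k2, ← (k3 _ _ e a1).1, ← (k3 _ _ e a1).2, h2]
  · have b1 : c ∈ Cz B := fun y hy => hc' y (le_sup_left (a := B) hy)
    have b2 : c ∈ Cz B' := fun y hy => hc' y (le_sup_right (b := B') hy)
    exact ⟨(congrArg (Λ' _) (h3 _ _ c b1).1).trans (k3 _ _ c b2).1, (congrArg (Λ' _) (h3 _ _ c b1).2).trans (k3 _ _ c b2).2⟩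
  · exact h4 x (k x hx).1 fun l => k4 _ (by rw [← (h3 _ _ _ a2).1, ← (h3 _ _ _ a2).2, (k x hx).2]) fun l' => h0 (l, l')

theorem Cd.card_le (h : Cd B m d g) : cA g ^ (m ^ 2) ≤ Nat.card A ^ d := by
  obtain ⟨e, r, ι, _, Λ, h1, h2, -, h4⟩ := h
  have : Nonempty {y : A // e * y * e = y} := ⟨⟨0, by simp⟩⟩
  have h5 : cA g ≤ Nat.card {y : A // e * y * e = y} ^ d := by
    refine le_trans ?_ (Nat.pow_le_pow_right Nat.card_pos h1)
    rw [← Nat.card_eq_fintype_card, ← Nat.card_fun]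
    exact Nat.card_le_card_of_injective (fun x l => ⟨Λ l x.1, h2 l _⟩) fun x y k => Subtype.ext (sub_eq_zero.1
      (h4 _ (by rw [sub_mul, mul_sub, x.2, y.2]) fun l => by rw [map_sub, sub_eq_zero]; exact Subtype.mk.inj (congrFun k l)))
  refine (Nat.pow_le_pow_left h5 _).trans ?_
  rw [← pow_mul, mul_comm, pow_mul]
  exact Nat.pow_le_pow_left r.card_mid d

/-- the fixed space of `g` is detected by `κ` coefficients -/
def Kr (B : Subring A) (m κ : ℕ) (g : A) : Prop :=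
  ∃ e, Ru B m e ∧ ∃ (ι : Type) (_ : Fintype ι) (α β : ι → A) (σ : A), Fintype.card ι ≤ κ ∧ (∀ l, e * α l = α l) ∧
    σ * (g - 1) + ∑ l, β l * α l = 1

/-- an element of rank one with `star s = ε s` -/
def Rk [StarRing A] (B : Subring A) (m : ℕ) (ε : ℤ) : Prop :=
  ∃ e s, Ru B m e ∧ s ∈ B ∧ star s = ε * s ∧ (∃ a ∈ B, ∃ b ∈ B, s = a * e * b) ∧ ∃ a ∈ B, ∃ b ∈ B, e = a * s * b

theorem Rk.mul [StarRing A] {ε ε' : ℤ} (h : Rk B m ε) (h' : Rk B' m' ε') (hc : ∀ x ∈ B, ∀ y ∈ B', x * y = y * x) :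
    Rk (B ⊔ B') (m * m') (ε * ε') := by
  obtain ⟨e, s, r, h1, h2, ⟨a, ha, b, hb, h3⟩, c, hc1, d, hd, h4⟩ := h
  obtain ⟨e', s', r', k1, k2, ⟨a', ha', b', hb', k3⟩, c', hc', d', hd', k4⟩ := h'
  have l : ∀ {x y}, x ∈ B → y ∈ B' → x * y ∈ B ⊔ B' := fun hx hy =>
    mul_mem (le_sup_left (a := B) hx) (le_sup_right (b := B') hy)
  have mm : ∀ x, ∀ y ∈ B', ∀ z ∈ B, ∀ w, x * y * (z * w) = x * z * (y * w) := fun x y hy z hz w => by
    rw [mul_assoc, ← mul_assoc y, ← hc z hz y hy, mul_assoc, mul_assoc]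
  refine ⟨e * e', s * s', r.mul r' hc le_sup_left le_sup_right, l h1 k1, ?_, ⟨_, l ha ha', _, l hb hb', ?_⟩, _, l hc1 hc',
    _, l hd hd', ?_⟩
  · rw [star_mul, h2, k2, ← zsmul_eq_mul, ← zsmul_eq_mul, ← zsmul_eq_mul, smul_mul_smul_comm, hc s h1 s' k1, mul_comm]
  · rw [mm _ _ ha' _ r.mem, mm _ _ (mul_mem ha' r'.mem) _ hb, ← h3, ← k3]
  · rw [mm _ _ hc' _ h1, mm _ _ (mul_mem hc' k1) _ hd, ← h4, ← k4]

end ring

section lin

variable {K M : Type} [Field K] [AddCommGroup M] [Module K M] [FiniteDimensional K M]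

theorem split (T : M →ₗ[K] M) : ∃ (σ : M →ₗ[K] M) (w : Fin (finrank K (LinearMap.ker T)) → M)
    (φ : Fin (finrank K (LinearMap.ker T)) → M →ₗ[K] K), ∀ x, σ (T x) + ∑ l, φ l x • w l = x := by
  obtain ⟨τ, hτ⟩ := T.rangeRestrict.exists_rightInverse_of_surjective T.range_rangeRestrict
  obtain ⟨σ, hσ⟩ := LinearMap.exists_extend τ
  have h1 : ∀ x, (LinearMap.id - σ ∘ₗ T : M →ₗ[K] M) x ∈ LinearMap.ker T := fun x => by
    have h2 : σ (T x) = τ (T.rangeRestrict x) := LinearMap.congr_fun hσ (T.rangeRestrict x)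
    have h3 : T (τ (T.rangeRestrict x)) = T x := congrArg Subtype.val (LinearMap.congr_fun hτ (T.rangeRestrict x))
    change T (x - σ (T x)) = 0
    rw [map_sub, h2, h3, sub_self]
  let c := finBasis K (LinearMap.ker T)
  refine ⟨σ, fun l => c l, fun l => c.coord l ∘ₗ (LinearMap.id - σ ∘ₗ T).codRestrict _ h1, fun x => ?_⟩
  have h2 := congrArg Subtype.val (c.sum_repr ((LinearMap.id - σ ∘ₗ T).codRestrict _ h1 x))
  rw [Submodule.coe_sum] at h2
  exact (congrArg _ h2).trans (add_sub_cancel _ _)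

theorem finrank_le_of_card [Fintype K] {W : Submodule K M} {d : ℕ} (h : Nat.card W ≤ Fintype.card K ^ d) :
    finrank K W ≤ d := by
  rw [natCard_eq_pow_finrank (K := K), Nat.card_eq_fintype_card] at h
  exact (Nat.pow_le_pow_iff_right Fintype.one_lt_card).1 h

variable {m : ℕ} (c : Basis (Fin m) K M)

/-- the matrix units of a basis -/
noncomputable def Eu (i j : Fin m) : End K M := (c.coord j).smulRight (c i)

theorem Eu_apply (i j : Fin m) (x : M) : Eu c i j x = c.repr x j • c i := rfl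

theorem Eu_mid (y : End K M) (k i j l : Fin m) : Eu c k i * y * Eu c j l = c.repr (y (c j)) i • Eu c k l :=
  LinearMap.ext fun x => by
    rw [End.mul_apply, End.mul_apply, Eu_apply, Eu_apply, map_smul, map_smul, LinearMap.smul_apply, Eu_apply, smul_smul,
      Finsupp.smul_apply, smul_eq_mul, mul_comm]

theorem mu_Eu : MU0 (Eu c) where
  mul i j k l := by
    have h1 := Eu_mid c 1 i j k l
    rw [mul_one, End.one_apply, c.repr_self, Finsupp.single_apply] at h1
    rw [h1]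
    by_cases h : j = k
    · rw [if_pos h, if_pos h.symm, one_smul]
    · rw [if_neg h, if_neg (Ne.symm h), zero_smul]
  sum := LinearMap.ext fun x => by
    rw [LinearMap.sum_apply]
    exact c.sum_repr x

theorem coef_Eu (y : End K M) (i j : Fin m) : coef (Eu c) y i j = c.repr (y (c j)) i • 1 := by
  simp only [coef, Eu_mid, ← Finset.smul_sum, (mu_Eu c).sum]

variable {A : Type} [Ring A] [Finite A] {B : Subring A} (ψ : End K M →+* A) (hB : ∀ x, x ∈ B ↔ ∃ y, ψ y = x)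
  (hc : ∀ a : K, ψ (a • 1) ∈ Subring.center A) (o : Fin m)
include hB

theorem ru_Eu : Ru B m (ψ (Eu c o o)) := by
  have h := (mu_Eu c).map ψ
  have k : ∀ i j, ψ (Eu c i j) ∈ B := fun i j => (hB _).2 ⟨_, rfl⟩
  refine ⟨Fin m, inferInstance, fun i => ψ (Eu c i o), fun i => ψ (Eu c o i), Fintype.card_fin m, k _ _, fun i => k _ _,
    fun i => k _ _, h.mul_eq _ _ _, fun i => by rw [h.mul_eq, h.mul_eq], fun i j hij => by rw [h.mul_eq, h.mul, if_neg hij], ?_⟩
  simp only [h.mul_eq, h.sum]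

include c o in
theorem kr_of {g : End K M} {κ : ℕ} (h : finrank K (LinearMap.ker (g - 1)) ≤ κ) : Kr B m κ (ψ g) := by
  obtain ⟨σ, w, φ, k⟩ := split (g - 1)
  refine ⟨_, ru_Eu c ψ hB o, _, inferInstance, fun l => ψ ((φ l).smulRight (c o)), fun l => ψ ((c.coord o).smulRight (w l)),
    ψ σ, by rwa [Fintype.card_fin], fun l => ?_, ?_⟩
  · rw [← map_mul]
    exact congrArg ψ (LinearMap.ext fun x => by simp [Eu_apply])
  · simp only [← map_mul]
    rw [← map_one ψ, ← map_sub, ← map_mul, ← map_sum, ← map_add]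
    refine congrArg ψ (LinearMap.ext fun x => ?_)
    simpa using k x

include c o hc in
theorem cd_of {g : End K M} {d : ℕ} (h : finrank K (LinearMap.ker (LinearMap.mulRight K g - LinearMap.mulLeft K g)) ≤ d) :
    Cd B m d (ψ g) := by
  obtain ⟨σ, w, φ, k⟩ := split (LinearMap.mulRight K g - LinearMap.mulLeft K g)
  have hE := (mu_Eu c).map ψ
  have mem : ∀ y, ψ y ∈ B := fun y => (hB _).2 ⟨_, rfl⟩
  have sm : ∀ (a : K) y, ψ (a • y) = ψ (a • 1) * ψ y := fun a y => by rw [← map_mul, smul_mul_assoc, one_mul]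
  let co : Fin m → Fin m → A →+ A := fun i j =>
    { toFun := fun x => coef (fun i j => ψ (Eu c i j)) x i j
      map_zero' := by simp [coef]
      map_add' := fun x y => by simp only [coef, mul_add, add_mul, Finset.sum_add_distrib] }
  have c0 : ∀ i j x, co i j x = coef (fun i j => ψ (Eu c i j)) x i j := fun _ _ _ => rfl
  have c1 : ∀ i j x, co i j x ∈ Cz B := fun i j x y hy => by
    obtain ⟨y, rfl⟩ := (hB y).1 hy
    rw [(mu_Eu c).expand y]
    simp only [map_sum, map_mul, coef_Eu, Finset.sum_mul, Finset.mul_sum]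
    refine Finset.sum_congr rfl fun p _ => Finset.sum_congr rfl fun q _ => ?_
    rw [c0, mul_assoc, ← hE.coef_comm, ← mul_assoc, ← cen_comm (hc _), mul_assoc]
  have c2 : ∀ i j x, ∀ z ∈ Cz B, co i j (z * x) = z * co i j x ∧ co i j (x * z) = co i j x * z := fun i j x z hz => by
    simp only [c0, coef, Finset.sum_mul, Finset.mul_sum]
    exact ⟨Finset.sum_congr rfl fun p _ => by rw [← mul_assoc, hz _ (mem _)]; simp only [mul_assoc],
      Finset.sum_congr rfl fun p _ => by simp only [mul_assoc]; rw [hz _ (mem _)]⟩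
  let Lt : (End K M →ₗ[K] End K M) → A →+ A := fun L => ∑ i, ∑ j, (AddMonoidHom.mulLeft (ψ (L (Eu c i j)))).comp (co i j)
  have l0 : ∀ L x, Lt L x = ∑ i, ∑ j, ψ (L (Eu c i j)) * co i j x := fun L x => by
    simp only [Lt, AddMonoidHom.finsetSum_apply]
    rfl
  have l1 : ∀ L y, ∀ z ∈ Cz B, Lt L (ψ y * z) = ψ (L y) * z := fun L y z hz => by
    have a1 : ∀ i j, co i j (ψ y) = ψ (c.repr (y (c j)) i • 1) := fun i j => by
      rw [← coef_Eu]
      simp only [c0, coef, map_sum, map_mul]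
    conv_rhs => rw [(mu_Eu c).expand y]
    simp only [l0, (c2 _ _ _ z hz).2, a1, coef_Eu, smul_mul_assoc, one_mul, map_sum, map_smul, Finset.sum_mul]
    exact Finset.sum_congr rfl fun i _ => Finset.sum_congr rfl fun j _ => by
      rw [sm _ (L _), ← mul_assoc, cen_comm (hc _)]
  have l2 : ∀ x, x = Lt σ (x * ψ g - ψ g * x) + ∑ l, ψ (w l) * Lt ((φ l).smulRight 1) x := fun x => by
    have a1 : ∀ y, ∀ z ∈ Cz B, ψ y * z = Lt σ (ψ y * z * ψ g - ψ g * (ψ y * z)) +
        ∑ l, ψ (w l) * Lt ((φ l).smulRight 1) (ψ y * z) := fun y z hz => by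
      rw [mul_assoc, ← hz _ (mem g), ← mul_assoc, ← mul_assoc, ← sub_mul, ← map_mul, ← map_mul, ← map_sub, l1 _ _ _ hz]
      conv_lhs => rw [← k y]
      simp only [l1 _ _ _ hz, map_add, map_sum, add_mul, Finset.sum_mul]
      exact congrArg _ (Finset.sum_congr rfl fun l _ => by rw [sm, ← cen_comm (hc _), mul_assoc]; rfl)
    have a2 : x = ∑ i, ∑ j, ψ (Eu c i j) * co i j x := (hE.expand x).trans
      (Finset.sum_congr rfl fun i _ => Finset.sum_congr rfl fun j _ => (c1 i j x _ (mem _)).symm)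
    rw [a2]
    simp only [Finset.sum_mul, Finset.mul_sum, ← Finset.sum_sub_distrib, map_sum]
    rw [Finset.sum_comm (s := Finset.univ (α := Fin (finrank K _))), ← Finset.sum_add_distrib]
    refine Finset.sum_congr rfl fun i _ => ?_
    rw [Finset.sum_comm (s := Finset.univ (α := Fin (finrank K _))), ← Finset.sum_add_distrib]
    exact Finset.sum_congr rfl fun j _ => a1 _ _ (c1 i j x)
  have l3 : ∀ l x, Lt ((φ l).smulRight 1) x ∈ Cz B := fun l x => by
    rw [l0]
    exact Subring.sum_mem _ fun i _ => Subring.sum_mem _ fun j _ => mul_mem (fun y _ => cen_comm (hc _) y) (c1 i j x)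
  have r := ru_Eu c ψ hB o
  refine ⟨_, r, _, inferInstance, fun l => (AddMonoidHom.mulRight (ψ (Eu c o o))).comp (Lt ((φ l).smulRight 1)),
    by rwa [Fintype.card_fin], fun l x => ?_, fun l x z hz => ?_, fun x hx h0 => ?_⟩
  · change _ * (Lt _ x * _) * _ = Lt _ x * _
    rw [← mul_assoc, l3 l x _ (mem _), mul_assoc, mul_assoc, hE.mul_eq, hE.mul_eq]
  · change Lt _ _ * _ = z * (Lt _ _ * _) ∧ Lt _ _ * _ = Lt _ _ * _ * z
    simp only [l0, (c2 _ _ _ z hz).1, (c2 _ _ _ z hz).2]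
    constructor
    · rw [← mul_assoc, Finset.mul_sum]
      congr 1
      exact Finset.sum_congr rfl fun i _ => by
        rw [Finset.mul_sum]
        exact Finset.sum_congr rfl fun j _ => by rw [← mul_assoc, hz _ (mem _), mul_assoc]
    · rw [mul_assoc, hz _ (mem _), ← mul_assoc]
      simp only [Finset.sum_mul, mul_assoc]
  · rw [l2 x, hx, sub_self, map_zero, zero_add]
    exact Finset.sum_eq_zero fun l _ => by rw [r.eq_zero (l3 l x) (h0 l), mul_zero]

end lin

end Cfsg.Agent.N2C.TenSO
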