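import Cfsg.Agent.N2.Cl.TenSO.Gen

/-!
# N2 (S3519), tensor decompositions: the data of a factor (helper92)

`FSp` symplectic factors, `FO` orthogonal factors, `fac` every factor is of one of the two kinds, `cz` the centraliser.
-/

set_option autoImplicit false
set_option linter.unusedSectionVars false
set_option maxHeartbeats 400000

namespace Cfsg.Agent.N2C.TenSO

open Cfsg.Agent.DS.Cl Cfsg.Agent.DS.Cl.Fwd Cfsg.Agent.SB.Cl Module Polynomial
open Cfsg.Agent.TH.Cl.Ten (Cz sqU one_add_pow)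
open Cfsg.Agent.N2C.Cyc
open scoped Pointwise

/-- the boxes -/
structure Bx : Prop where
  usp : BoxUSp
  uo : BoxUO
  ssp : BoxSSp
  lw : BoxLW
  zo : BoxZO
  x : BoxX

variable {A : Type} [Ring A] [StarRing A] [Finite A]

/-- a factor of dimension `a` -/
structure Fac (F : FR A) (H : Subgroup (RingAut A)) (𝓑 : Set (Subring A)) (B : Subring A) (q a : ℕ) : Prop where
  mem : B ∈ 𝓑
  two : 2 ≤ a
  st : Stab F H 𝓑
  ru : ∃ e, Ru B a e
  card : Nat.card B = q ^ a ^ 2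
  third : ∀ B' ∈ 𝓑, B' ≠ B → (∀ X ∈ 𝓑, X = B ∨ X = B') → Nat.card A ≤ Nat.card B' ^ a ^ 2

/-- a symplectic factor -/
structure FSp (F : FR A) (H : Subgroup (RingAut A)) (𝓑 : Set (Subring A)) (B : Subring A) (q a : ℕ) : Prop
    extends Fac F H 𝓑 B q a where
  ev : ∃ k, a = 2 * k
  q3 : a = 2 → 3 ≤ q
  pb : PB B (2 * q ^ (a + 1).choose 2)
  pbo : Odd q → PB B (q ^ (a + 1).choose 2)
  rk : Rk B a (-1)
  U : 6 ≤ a ∨ 3 ≤ q → ∃ u j, GE F 𝓑 B a (q ^ j) a u ∧ Kr B a 1 (u : A)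
  S : ∃ s, GE F 𝓑 B a (q ^ (a / 2) + 1) a s ∧ SE (s : A) (q ^ a) 3 ∧ (4 ≤ a → SE (s : A) (q ^ a) 5)
  L : a = 2 → Even q → ∃ l, GE F 𝓑 B a (q - 1) 2 l
  W : a = 4 → q = 2 → ∃ w, GE F 𝓑 B a 3 6 w
  P : a = 2 → Odd q → ∃ (u : Aˣ) (E : Fin 2 → Fin 2 → A), MU0 E ∧ (∀ i j, E i j ∈ B) ∧ (u : A) = 1 + E 0 1 ∧ u ∈ I0 F ∧
    cj A u ∈ ptStab (RingAut A) 𝓑 ∧ u ^ q = 1

/-- an orthogonal factor -/
structure FO (F : FR A) (H : Subgroup (RingAut A)) (𝓑 : Set (Subring A)) (B : Subring A) (q a : ℕ) : Prop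
    extends Fac F H 𝓑 B q a where
  odd : Odd q
  three : 3 ≤ a
  q5 : a = 3 → 5 ≤ q
  pb : PB B (2 * q ^ a.choose 2)
  rk : Rk B a 1
  U : ∃ u j, GE F 𝓑 B a (q ^ j) (a + 2) u ∧ Kr B a 2 (u : A)
  U3 : a = 3 → ∃ u j, GE F 𝓑 B a (q ^ j) a u ∧ Kr B a 1 (u : A)
  Z : ∃ z, GE F 𝓑 B a 2 ((a - 2) ^ 2 + 4) z
  Z3 : a = 3 → ∃ z N, N.Coprime q ∧ GE F 𝓑 B a N 3 z

variable {F : FR A} {H : Subgroup (RingAut A)} {p : ℕ} {𝓑 : Set (Subring A)} {B : Subring A} {q n a : ℕ}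
  {W : Type} [AddCommGroup W] [Module A W] [Finite W]
  {K : Type} [Field K] [Fintype K] {h : HF K (Fin a → K)} {F' : FR h.EB}

namespace MD

variable (m : MD B q a h F') (f : FM B h.EB)
include m

include f in
theorem ru : ∃ e, Ru B a e := ⟨_, ru_Eu (Pi.basisFun K (Fin a)) f.ψ f.mem ⟨0, m.pos⟩⟩

theorem kr {g : h.EB} {κ : ℕ} (k : Fx h g κ) : Kr B a κ (f.ψ g) :=
  kr_of (Pi.basisFun K (Fin a)) f.ψ f.mem ⟨0, m.pos⟩ (g := g) ((Nat.pow_le_pow_iff_right Fintype.one_lt_card).1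
    ((card_fix (h.ap g)).symm.le.trans k))

theorem se {s : h.EB} (k : IrrV (h.ap s)) {μ : ℕ} (k' : ∀ j, 0 < j → j < μ → s ^ j ≠ 1) : SE (f.ψ s) (q ^ a) μ := by
  obtain ⟨v, hv⟩ := cycV_of_irr k
  choose φ hφ using hv
  let ζ : (Fin a → K) → h.EB := fun x => h.eb (aeval (h.ap s) (φ x))
  have h1 : ∀ x, ζ x * s = s * ζ x := fun x => (aeval_comm (x := h.ap s) rfl (φ x)).symm
  refine ⟨⟨Fin a → K, fun x => f.ψ (ζ x), by rw [card_V K, finrank_fin_fun, m.card], fun i x hx => ?_, fun i j hij => ?_⟩,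
    fun j h0 hj => ?_⟩
  · change x * f.ψ (h.eb (aeval (h.ap s) (φ i))) = f.ψ (h.eb (aeval (h.ap s) (φ i))) * x
    induction φ i using Polynomial.induction_on' with
    | add a b ha hb =>
      rw [show h.eb (aeval (h.ap s) (a + b)) = h.eb (aeval (h.ap s) a) + h.eb (aeval (h.ap s) b) from map_add _ _ _, map_add,
        mul_add, add_mul, ha, hb]
    | monomial i c =>
      have h2 : h.eb (aeval (h.ap s) (monomial i c)) = h.eb (c • 1) * s ^ i := by
        rw [aeval_monomial, Algebra.algebraMap_eq_smul_one]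
        rfl
      rw [h2, map_mul, map_pow, ← mul_assoc, cen_comm (f.cen _ (h.smul_mem_center c)), mul_assoc, mul_assoc,
        ((show Commute x (f.ψ s) from hx).pow_right i).eq]
  · rw [← map_sub]
    refine IsUnit.map f.ψ (k.isUnit (x := h.ap (ζ i - ζ j))
      (show (ζ i - ζ j) * s = s * (ζ i - ζ j) by rw [sub_mul, mul_sub, h1, h1]) fun e => hij ?_)
    rw [← hφ i, ← hφ j]
    exact sub_eq_zero.1 (LinearMap.congr_fun e v)
  · rw [← map_pow, ← map_one f.ψ, ← map_sub]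
    exact IsUnit.map f.ψ (k.isUnit (x := h.ap (s ^ j - 1)) (show (s ^ j - 1) * s = s * (s ^ j - 1) by
      rw [sub_mul, mul_sub, ← pow_succ, ← pow_succ', one_mul, mul_one]) (sub_ne_zero.2 (k' j h0 hj)))

include f in
theorem rk (hτ : ∀ c, h.τ c = c) {ε : ℤ} (hε : ∀ u v, h.b u v = ε * h.b v u) : Rk B a ε := by
  let c := Pi.basisFun K (Fin a)
  let o : Fin a := ⟨0, m.pos⟩
  obtain ⟨y, hy⟩ := h.exists_ne (c.ne_zero o)
  refine ⟨_, f.ψ (h.eb (h.ro (c o) (c o))), ru_Eu c f.ψ f.mem o, f.mem' _, ?_, ⟨1, one_mem _, f.ψ (h.eb (h.ro (c o) (c o))),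
    f.mem' _, ?_⟩, 1, one_mem _, f.ψ (h.eb ((h.b y (c o))⁻¹ • (c.coord o).smulRight y)), f.mem' _, ?_⟩
  · rw [← f.st, ← map_intCast f.ψ, ← map_mul]
    refine congrArg _ (h.ap_ext fun v => ?_)
    rw [ap_star_ro, hτ, hε, ← zsmul_eq_mul, ← zsmul_eq_mul, smul_assoc]
    rfl
  · rw [one_mul]
    refine Eq.trans (congrArg _ (h.ap_ext fun v => ?_)) (map_mul f.ψ (h.eb (Eu c o o)) _)
    change h.b v (c o) • c o = Eu c o o (h.b v (c o) • c o)
    rw [map_smul, Eu_apply, c.repr_self, Finsupp.single_eq_same, one_smul]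
  · rw [one_mul, ← map_mul]
    refine congrArg f.ψ (h.ap_ext (a := h.eb (Eu c o o)) fun v => ?_)
    change c.repr v o • c o = h.b ((h.b y (c o))⁻¹ • c.repr v o • y) (c o) • c o
    rw [h.smul_left, h.smul_left, mul_left_comm, inv_mul_cancel₀ hy, mul_one]

variable (T : TC F H p 𝓑) (M : Amb F W q n) (hB : B ∈ 𝓑)
include T hB

omit m in
theorem cen_iff {y : h.EB} : f.ψ y ∈ Subring.center A ↔ y ∈ Subring.center h.EB :=
  ⟨fun k => Subring.mem_center_iff.2 fun g => f.inj (by rw [map_mul, map_mul, cen_comm k]), f.cen y⟩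

include f in
theorem fac (h1 : a ≠ 1) (st : Stab F H 𝓑) : Fac F H 𝓑 B q a := by
  have h0 := m.pos
  refine ⟨hB, by omega, st, m.ru f, ?_, fun B' hB' hne k => ?_⟩
  · rw [← m.card, ← finrank_fin_fun K (n := a), ← Size.card_EB h]
    exact (Nat.card_eq_of_bijective (fun y => (⟨f.ψ y, f.mem' y⟩ : B)) ⟨fun _ _ e => f.inj (Subtype.mk.inj e),
      fun x => ((f.mem _).1 x.2).imp fun _ e => Subtype.ext e⟩).symm
  let c := Pi.basisFun K (Fin a)
  let ψ : End K (Fin a → K) →+* A := f.ψ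
  have hE := (mu_Eu c).map ψ
  have h2 : ∀ x ∈ B, ∀ i j, coef (fun i j => ψ (Eu c i j)) x i j ∈ B' := fun x hx i j => by
    obtain ⟨y, rfl⟩ : ∃ y, ψ y = x := (f.mem x).1 hx
    have h3 : coef (fun i j => ψ (Eu c i j)) (ψ y) i j = ψ (c.repr (y (c j)) i • 1) := by
      rw [← coef_Eu]
      simp only [coef, map_sum, map_mul]
    exact h3 ▸ T.d.t.cen_le B' hB' (f.cen _ (h.smul_mem_center _))
  let Y : Subring A :=
    { carrier := {x | ∀ i j, coef (fun i j => ψ (Eu c i j)) x i j ∈ B'}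
      mul_mem' := fun hx hy i j => by
        rw [Ten.coef_mul_coef hE]
        exact sum_mem fun l _ => mul_mem (hx _ _) (hy _ _)
      one_mem' := h2 1 (one_mem _)
      add_mem' := fun hx hy i j => by simpa only [coef, mul_add, add_mul, Finset.sum_add_distrib] using add_mem (hx i j) (hy i j)
      zero_mem' := h2 0 (zero_mem _)
      neg_mem' := fun hx i j => by simpa only [coef, mul_neg, neg_mul, Finset.sum_neg_distrib] using neg_mem (hx i j) }
  have h3 : ∀ x, x ∈ Y := T.d.t.ind fun X hX x hx i j => by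
    rcases k X hX with rfl | rfl
    · exact h2 x hx i j
    · have h4 := mul_mem hx (h2 1 (one_mem _) i j)
      rw [coef, Finset.mul_sum] at h4
      rwa [coef, Finset.sum_congr rfl fun l _ => show _ = x * (ψ (Eu c l i) * 1 * ψ (Eu c j l)) by
        rw [show ψ (Eu c l i) * x = x * ψ (Eu c l i) from T.comm hB hX hne.symm _ (f.mem' _) x hx, mul_one, mul_assoc]]
  rw [sq, pow_mul]
  conv_rhs => rw [← Nat.card_fin a, ← Nat.card_fun, ← Nat.card_fun]
  refine Nat.card_le_card_of_injective (fun x i j => ⟨_, h3 x j i⟩) fun x y e => ?_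
  rw [hE.expand x, hE.expand y]
  exact Finset.sum_congr rfl fun i _ => Finset.sum_congr rfl fun j _ =>
    congrArg (· * _) (Subtype.mk.inj (congrFun (congrFun e j) i))

include M

omit m in
theorem sq_I0 {u : h.EBˣ} (hu : u ∈ Sq h.EB) : Units.map (f.ψ : h.EB →* A) u ∈ I0 F := by
  refine (Subgroup.closure_le ((I0 F).comap (Units.map (f.ψ : h.EB →* A)))).2 ?_ hu
  rintro _ ⟨v, hv, rfl⟩
  change Units.map _ (v * v) ∈ I0 F
  rw [map_mul]
  exact M.sq _ (T.iso hB (f.mem' v) ((congrArg (f.ψ v * ·) (f.st v).symm).trans (by rw [← map_mul, hv, map_one])))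

theorem ge {u : h.EBˣ} {N d : ℕ} (e : El h u N d) : GE F 𝓑 B a N d (Units.map (f.ψ : h.EB →* A) u) := by
  have h1 := sq_I0 f T M hB e.sq
  refine ⟨f.mem' u, h1, T.pt hB (f.mem' u) (F.comm_le_Iso h1).1, by rw [← map_pow, e.pow, map_one],
    cd_of (Pi.basisFun K (Fin a)) f.ψ f.mem (fun c => f.cen _ (h.smul_mem_center c)) ⟨0, m.pos⟩ (g := h.ap u)
      (finrank_le_of_card (le_trans (le_of_eq (Nat.card_congr (Equiv.subtypeEquivRight fun x => ?_))) e.ca))⟩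
  exact sub_eq_zero (a := x * h.ap u) (b := h.ap u * x)

include f

omit m in
theorem stab {u : h.EBˣ} {N d : ℕ} (e : El h u N d) : Stab F H 𝓑 := fun _ =>
  T.mem_H hB (y := Units.map (f.ψ : h.EB →* A) u) (f.mem' u) (sq_I0 f T M hB e.sq) fun k => e.cen ((cen_iff f T hB).1 k)

theorem fsp (X : Bx) (k : IsSp h F') : FSp F H 𝓑 B q a := by
  have hA : Alt h := ⟨k.1, k.2.1⟩
  obtain ⟨j, hj, -⟩ := Size.card_Iso_Sp k
  have ha : a = 2 * j := (finrank_fin_fun K).symm.trans hj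
  have h0 := m.pos
  have hq := m.two
  have hc := m.card
  have q3 : a = 2 → 3 ≤ q := fun h2 => by
    by_contra h3
    obtain ⟨h4, x, h5, h6⟩ := (X.x K _ h).2.1 hA (by omega) (by omega)
    refine h6 ((cen_iff f T hB).1 (T.cen_of (fun x => x * x + x + 1 = 0) id (fun γ _ x hx => ?_) (fun _ _ => rfl)
      (fun _ _ hx => hx) (fun x hx => ⟨?_, rfl⟩) hB (fun x hx y hy => ?_) (f.mem' x) ?_))
    · rw [← map_mul, ← map_one γ, ← map_add, ← map_add, hx, map_zero]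
    · rw [← star_mul, ← star_one, ← star_add, ← star_add, hx, star_zero]
    · obtain ⟨x, rfl⟩ := (f.mem x).1 hx
      obtain ⟨y, rfl⟩ := (f.mem y).1 hy
      intro h7 h8
      exact (map_mul _ _ _).symm.trans ((congrArg _ (h4 x y (f.inj (by simpa using h7)) (f.inj (by simpa using h8)))).trans
        (map_mul _ _ _))
    · simpa using congrArg f.ψ h5
  obtain ⟨s, s1, s2, s3⟩ := X.ssp K _ h hA j hj (by omega) (by omega)
  refine ⟨m.fac f T hB (by omega) (stab f T M hB s1), ⟨j, ha⟩, q3, (m.pb_Sp f k).1, (m.pb_Sp f k).2,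
    m.rk f k.1 fun u v => by rw [Size.alt_swap k.2.1]; simp, fun h1 => ?_, ?_, fun h1 h2 => ?_, fun h1 h2 => ?_, fun h1 h2 => ?_⟩
  · obtain ⟨u, i, u1, u2⟩ := X.usp K _ h hA j hj (by omega) (by omega)
    rw [hc, ← ha] at u1
    exact ⟨_, i, m.ge f T M hB u1, m.kr f u2⟩
  · rw [hc, ← ha, show j = a / 2 by omega] at s1
    exact ⟨_, m.ge f T M hB s1, m.se f s2 fun i i0 i1 e => s3 i i0 (by omega) (Units.ext e),
      fun h4 => m.se f s2 fun i i0 i1 e => s3 i i0 (by omega) (Units.ext e)⟩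
  · obtain ⟨l, hl⟩ := (X.lw K _ h hA).1 (by omega) (hc ▸ h2) (by have := q3 h1; obtain ⟨r, hr⟩ := h2; omega)
    exact ⟨_, m.ge f T M hB (hc ▸ hl)⟩
  · obtain ⟨l, hl⟩ := (X.lw K _ h hA).2 (by omega) (by omega)
    exact ⟨_, m.ge f T M hB hl⟩
  · have := m.nt
    obtain ⟨w, hw⟩ := exists_ne (0 : Fin a → K)
    obtain ⟨y, hy⟩ := h.exists_ne hw
    have h3 : h.b ((h.b y w)⁻¹ • y) w = 1 := by rw [h.smul_left, inv_mul_cancel₀ hy]
    generalize (h.b y w)⁻¹ • y = z at h3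
    have h4 : LinearIndependent K ![w, z] := LinearIndependent.pair_iff.2 fun s t e => by
      have h5 := congrArg (h.b · w) e
      simp only [h.add_left, h.smul_left, k.2.1, h3, h.zero_left, mul_zero, zero_add, mul_one] at h5
      rw [h5, zero_smul, add_zero] at e
      exact ⟨(smul_eq_zero.1 e).resolve_right hw, h5⟩
    let c := basisOfLinearIndependentOfCardEqFinrank h4 (by rw [Fintype.card_fin]; omega)
    have c0 : c 0 = w := congrFun (coe_basisOfLinearIndependentOfCardEqFinrank h4 _) 0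
    have c1 : c 1 = z := congrFun (coe_basisOfLinearIndependentOfCardEqFinrank h4 _) 1
    have h5 : h.ro w w = Eu c 0 1 := c.ext fun i => by
      fin_cases i
      · simp [Eu_apply, h.ro_apply, ← c0, k.2.1]
      · simp only [Eu_apply, h.ro_apply, Fin.mk_one, c.repr_self, Finsupp.single_eq_same]
        rw [c0, c1, h3]
    have h6 : h.eb (h.ro w w) * h.eb (h.ro w w) = 0 := (h.ro_mul w w w w).trans (by rw [k.2.1, zero_smul]; rfl)
    have h7 : star (h.eb (h.ro w w)) = -h.eb (h.ro w w) := h.ap_ext fun v => by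
      rw [ap_star_ro, k.1, Size.alt_swap k.2.1, neg_smul]
      rfl
    have h8 : sqU _ h6 ^ q = 1 := Units.ext ((one_add_pow h6 q).trans (h.ap_ext fun v => by
      change v + (q : End K (Fin a → K)) _ = v
      rw [End.natCast_apply, ← Nat.cast_smul_eq_nsmul K, ← hc, FiniteField.cast_card_eq_zero, zero_smul, add_zero]))
    have h9 := sq_I0 f T M hB (sq_of_odd (u := sqU _ h6) (by
      change (1 + _) * star (1 + _) = 1
      rw [star_add, star_one, h7, ← sub_eq_add_neg]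
      exact (sqU _ h6).val_inv) h2 h8)
    let ψ : End K (Fin a → K) →+* A := f.ψ
    exact ⟨_, _, (mu_Eu c).map ψ, fun i j => f.mem' _, (map_add ψ 1 _).trans (by rw [map_one, ← h5]; rfl), h9,
      T.pt hB (f.mem' _) (F.comm_le_Iso h9).1, by rw [← map_pow, h8, map_one]⟩

theorem fo (X : Bx) {Q : QuadraticForm K (Fin a → K)} (k : IsO h F' Q) (h2 : (2 : K) ≠ 0) : FO F H 𝓑 B q a := by
  have hb : ∀ u v, h.b u v = h.b v u := fun u v => by rw [k.2.1, k.2.1, QuadraticMap.polar_comm]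
  have hS : Sym h := ⟨k.1, hb, h2⟩
  have ha : finrank K (Fin a → K) = a := finrank_fin_fun K
  have h0 := m.pos
  have hq := m.two
  have hc := m.card
  have ho : Odd q := hc ▸ (two_ne_iff K).1 h2
  have s1 : ∀ γ ∈ SAut A, ∀ x : A, star x = -x → star (γ x) = -γ x := fun γ hγ x hx => by rw [← hγ, hx, map_neg]
  have s2 : ∀ x, star (f.ψ x) = -f.ψ x ↔ star x = -x := fun x => by rw [← f.st, ← map_neg, f.inj.eq_iff]
  have a1 : a ≠ 1 := by
    rintro rfl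
    refine T.d.t.not_le B hB fun x hx => ?_
    obtain ⟨y, rfl⟩ := (f.mem x).1 hx
    rw [show y = h.eb (h.ap y (Pi.basisFun K _ 0) 0 • 1) from (Pi.basisFun K (Fin 1)).ext fun i => funext fun j => by
      rw [Subsingleton.elim i 0, Subsingleton.elim j 0]
      change h.ap y _ 0 = _ * (Pi.basisFun K (Fin 1) 0) 0
      simp]
    exact f.cen _ (h.smul_mem_center _)
  have a2 : a ≠ 2 := fun h3 => by
    obtain ⟨h4, x, h5, h6⟩ := (X.x K _ h).1 hS (by omega)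
    refine h6 ((cen_iff f T hB).1 (T.cen_of (fun x => star x = -x) id s1 (fun _ _ => rfl)
      (fun _ _ hx => hx) (fun x hx => ⟨by rw [hx, star_neg, hx], rfl⟩) hB (fun x hx y hy => ?_) (f.mem' x) ((s2 x).2 h5)))
    obtain ⟨x, rfl⟩ := (f.mem x).1 hx
    obtain ⟨y, rfl⟩ := (f.mem y).1 hy
    exact fun h7 h8 => (map_mul _ _ _).symm.trans ((congrArg _ (h4 x y ((s2 x).1 h7) ((s2 y).1 h8))).trans (map_mul _ _ _))
  have q5 : a = 3 → 5 ≤ q := fun h3 => by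
    by_contra h1
    obtain ⟨h4, x, h5, h6, h7⟩ := (X.x K _ h).2.2 hS (by omega) (by obtain ⟨r, hr⟩ := ho; omega)
    have s3 : ∀ x, f.ψ x * f.ψ x * f.ψ x = -f.ψ x ↔ x * x * x = -x := fun x => by
      rw [← map_mul, ← map_mul, ← map_neg, f.inj.eq_iff]
    refine h7 ((cen_iff f T hB).1 ((map_mul f.ψ x x).symm ▸ T.cen_of (fun x => star x = -x ∧ x * x * x = -x) (fun x => x * x)
      (fun γ hγ x hx => ⟨s1 γ hγ x hx.1, by rw [← map_mul, ← map_mul, hx.2, map_neg]⟩) (fun γ x => map_mul γ x x)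
      (fun _ _ hx => mul_mem hx hx) (fun x hx => ⟨⟨by rw [hx.1, star_neg, hx.1], by
        rw [hx.1, neg_mul_neg, mul_neg, hx.2]⟩, star_mul x x⟩) hB (fun x hx y hy => ?_) (f.mem' x) ⟨(s2 x).2 h5, (s3 x).2 h6⟩))
    obtain ⟨x, rfl⟩ := (f.mem x).1 hx
    obtain ⟨y, rfl⟩ := (f.mem y).1 hy
    intro h8 h9
    simpa only [map_mul] using congrArg f.ψ (h4 x y ((s2 x).1 h8.1) ((s2 y).1 h9.1) ((s3 x).1 h8.2) ((s3 y).1 h9.2))
  obtain ⟨⟨u, i, u1, u2⟩, u3⟩ := X.uo K _ h hS (by omega)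
  obtain ⟨z, hz⟩ := (X.zo K _ h hS).1 (by omega)
  rw [hc, ha] at u1 u3
  rw [ha] at hz
  refine ⟨m.fac f T hB a1 (stab f T M hB hz), ho, by omega, q5, m.pb_O f k h2 a2, m.rk f k.1 fun u v => by rw [hb]; simp,
    ⟨_, i, m.ge f T M hB u1, m.kr f u2⟩, fun h3 => ?_, ⟨_, m.ge f T M hB hz⟩, fun h3 => ?_⟩
  · obtain ⟨u, i, u1, u2⟩ := u3 (by rw [h3]; decide)
    exact ⟨_, i, m.ge f T M hB u1, m.kr f u2⟩
  · obtain ⟨z, N, z1, z2⟩ := (X.zo K _ h hS).2 (by omega) (hc ▸ q5 h3)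
    exact ⟨_, N, hc ▸ z1, m.ge f T M hB z2⟩

end MD

variable (T : TC F H p 𝓑) (M : Amb F W q n) (hB : B ∈ 𝓑)
include T M hB

theorem TC.fac (X : Bx) : ∃ a, FSp F H 𝓑 B q a ∨ FO F H 𝓑 B q a := by
  obtain ⟨l, h1, h2⟩ := T.d.l B hB
  obtain ⟨K, _, _, a, h, F', f, m⟩ := exists_md (T.d.t.ss T.d.ss hB) (T.d.t.cen_le B hB) (fun _ => T.d.t.cen_blk hB) h1 h2
    M.st M.cen
  exact ⟨a, m.kd.imp (m.fsp f T M hB X) fun ⟨_, k, h2⟩ => m.fo f T M hB X k h2⟩

theorem TC.cz : ∃ k, (∃ e, Ru (Cz B) k e) ∧ PB (Cz B) (2 * q ^ (k + 1).choose 2) ∧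
    (Odd q → PB (Cz B) (q ^ (k + 1).choose 2)) ∧ (k ≤ 3 → PB (Cz B) (2 * q ^ 3)) := by
  obtain ⟨l, h1, h2, -⟩ := T.d.exists_l hB
  obtain ⟨K, _, _, a, h, F', f, m⟩ := exists_md (T.d.ss_Cz hB) (fun z hz y _ => cen_comm hz y) (fun _ => T.cen_Cz hB) h1 h2
    M.st M.cen
  exact ⟨a, m.ru f, m.pb f⟩

end Cfsg.Agent.N2C.TenSO
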