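import Cfsg.Agent.N2.Cl.TenSO.Amb

/-!
# N2 (S3519), tensor decompositions: tensor products of elements, the criteria (helper92)

`GE` an element of the stabiliser, `gdG` the general criterion, `gdC` the criterion with the Cayley count, `pair` the
product of two transvections.
-/

set_option autoImplicit false
set_option linter.unusedSectionVars false
set_option maxHeartbeats 400000

namespace Cfsg.Agent.N2C.TenSO

open Cfsg.Agent.DS.Cl Cfsg.Agent.DS.Cl.Fwd Cfsg.Agent.SB.Cl Module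
open Cfsg.Agent.TH.Cl.Ten (Cz)
open Cfsg.Agent.N2C.Cyc
open scoped Pointwise

section num

theorem fin {c X S q E h N : ℕ} (q₀ α k x τ σ j : ℕ) (hq : q₀ ≤ q) (h0 : 0 < q) (h1 : α * c ^ 2 ≤ k * q ^ E)
    (h2 : X ≤ x * q ^ h) (h3 : τ * q ^ N ≤ σ * S) (h4 : k ^ 3 * x ^ 2 * σ ^ 2 ≤ α ^ 3 * τ ^ 2 * q₀ ^ j)
    (h5 : 3 * E + 2 * h + j ≤ 2 * N) (h6 : 0 < α * σ) : c ^ 3 * X ≤ S := by
  have h7 := Nat.pos_of_mul_pos_right h6
  have h8 := Nat.pos_of_mul_pos_left h6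
  refine (Nat.pow_le_pow_iff_left two_ne_zero).1 (Nat.le_of_mul_le_mul_left ?_ (show 0 < α ^ 3 * σ ^ 2 by positivity))
  calc α ^ 3 * σ ^ 2 * (c ^ 3 * X) ^ 2 = (α * c ^ 2) ^ 3 * X ^ 2 * σ ^ 2 := by ring
    _ ≤ (k * q ^ E) ^ 3 * (x * q ^ h) ^ 2 * σ ^ 2 := by gcongr
    _ = k ^ 3 * x ^ 2 * σ ^ 2 * q ^ (3 * E + 2 * h) := by ring
    _ ≤ α ^ 3 * τ ^ 2 * q ^ j * q ^ (3 * E + 2 * h) := Nat.mul_le_mul_right _ (h4.trans (by gcongr))
    _ = α ^ 3 * τ ^ 2 * q ^ (3 * E + 2 * h + j) := by ring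
    _ ≤ α ^ 3 * τ ^ 2 * q ^ (2 * N) := Nat.mul_le_mul_left _ (Nat.pow_le_pow_right h0 h5)
    _ = α ^ 3 * (τ * q ^ N) ^ 2 := by ring
    _ ≤ α ^ 3 * (σ * S) ^ 2 := by gcongr
    _ = _ := by ring

theorem two_mul_le (t : ℕ) : 2 * t ≤ 2 ^ t := by
  induction t with
  | zero => simp
  | succ t ih =>
    rcases t with _ | t
    · simp
    · have : 2 ≤ 2 ^ (t + 1) := Nat.le_self_pow (by omega) 2
      rw [pow_succ]
      omega

theorem le_of_two_pow {t n j : ℕ} (h : 2 ^ t ≤ n) (hn : n < 2 ^ (j + 1)) : t ≤ j :=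
  Nat.lt_succ_iff.1 ((Nat.pow_lt_pow_iff_right one_lt_two).1 (h.trans_lt hn))

/-- the generic case -/
theorem gen {c X S q n t E h : ℕ} (hq : 2 ≤ q) (h1 : c ^ 2 ≤ q ^ E) (h2 : X ≤ t * 4 * q ^ h) (ht : 2 ^ t ≤ n)
    (h3 : 5 * q ^ n.choose 2 ≤ 32 * S)
    (h5 : 3 * E + 2 * h + 2 * n + 10 ≤ n * n ∨ 3 ≤ q ∧ n < 32 ∧ 3 * E + 2 * h + n + 9 ≤ n * n) : c ^ 3 * X ≤ S := by
  have h6 := two_choose n
  rcases h5 with h5 | ⟨h7, h8, h5⟩
  · refine fin (E := E) 2 1 1 (t * 4) 5 32 (n + 10) hq (by omega) (by omega) h2 h3 ?_ (by omega) (by omega)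
    have h7 : t ^ 2 ≤ 2 ^ n := (Nat.pow_le_pow_left Nat.lt_two_pow_self.le 2).trans (by
      rw [← pow_mul, mul_comm]
      exact Nat.pow_le_pow_right two_pos ((two_mul_le t).trans ht))
    rw [pow_add]
    nlinarith
  · have h9 := le_of_two_pow (j := 4) ht h8
    exact fin (E := E) 3 1 1 16 5 32 9 h7 (by omega) (by omega) (h2.trans (Nat.mul_le_mul_right _ (by omega))) h3 (by norm_num)
      (by omega) (by omega)

end num

variable {A : Type} [Ring A] [StarRing A] [Finite A] {F : FR A} {H : Subgroup (RingAut A)} {𝓑 : Set (Subring A)}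
  {B B' X X' : Subring A} {m m' N N' d d' : ℕ} {g g' : Aˣ}

/-- an element of the stabiliser -/
structure GE (F : FR A) (𝓑 : Set (Subring A)) (X : Subring A) (m N d : ℕ) (g : Aˣ) : Prop where
  mem : (g : A) ∈ X
  i0 : g ∈ I0 F
  pt : cj A g ∈ ptStab (RingAut A) 𝓑
  pow : g ^ N = 1
  cd : Cd X m d (g : A)

/-- `H` contains the stabiliser of the factors -/
def Stab (F : FR A) (H : Subgroup (RingAut A)) (𝓑 : Set (Subring A)) : Prop :=
  ∀ s ∈ F.S, s ∈ ptStab (RingAut A) 𝓑 → s ∈ H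

/-- commuting subrings -/
abbrev Cm (X X' : Subring A) : Prop := ∀ x ∈ X, ∀ y ∈ X', x * y = y * x

omit [StarRing A] [Finite A] in
theorem Cm.sup (h : Cm B X) (h' : Cm B' X) : Cm (B ⊔ B') X := fun _ hx y hy =>
  ((sup_le (c := Cz X) (fun z hz w hw => (h z hz w hw).symm) fun z hz w hw => (h' z hz w hw).symm) hx y hy).symm

namespace GE

variable (h : GE F 𝓑 X m N d g)
include h

theorem uni : (g : A) * star (g : A) = 1 := (F.comm_le_Iso h.i0).1

theorem pow' : (g : A) ^ N = 1 := congrArg Units.val h.pow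

theorem mono (hd : d ≤ d') : GE F 𝓑 X m N d' g := ⟨h.mem, h.i0, h.pt, h.pow, h.cd.mono hd⟩

theorem gd (st : Stab F H 𝓑) (hc : cI F g ^ 3 * Nat.card ↥(H ⊓ F.S) ≤ Nat.card F.S) : Gd F H :=
  gd_of_cI h.i0 (st _ ⟨g, h.i0, rfl⟩ h.pt) le_rfl hc

variable (h' : GE F 𝓑 X' m' N' d' g') (hc : Cm X X') (k : N.Coprime N')
include h' hc k

theorem both (x : A) (hx : x * ((g * g' : Aˣ) : A) = (g * g' : Aˣ) * x) : x * g = g * x ∧ x * g' = g' * x :=
  have h1 := hc _ h.mem _ h'.mem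
  ⟨comm_of_cop h1 h.pow' h'.pow' k hx, comm_of_cop h1.symm h'.pow' h.pow' k.symm (h1 ▸ hx)⟩

theorem mul : GE F 𝓑 (X ⊔ X') (m * m') (N * N') (d * d') (g * g') :=
  ⟨mul_mem (le_sup_left (a := X) h.mem) (le_sup_right (b := X') h'.mem), mul_mem h.i0 h'.i0,
    by rw [map_mul]; exact mul_mem h.pt h'.pt,
    by rw [(show Commute g g' from Units.ext (hc _ h.mem _ h'.mem)).mul_pow, pow_mul, h.pow, mul_comm N, pow_mul, h'.pow,
      one_pow, one_pow, mul_one], h.cd.mul h'.cd hc h'.mem (h.both h' hc k)⟩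

end GE

namespace Amb

variable {W : Type} [AddCommGroup W] [Module A W] [Finite W] {q n : ℕ} (M : Amb F W q n)
include M

theorem exists_r (h : GE F 𝓑 X m N d g) : ∃ r, n = m * (r + 1) := by
  obtain ⟨e, h1, -⟩ := h.cd
  obtain ⟨r, hr⟩ := M.dvd _ _ _ h1
  have := M.six
  rcases r with _ | r
  · omega
  · exact ⟨r, hr⟩

theorem cA_le (h : GE F 𝓑 X m N d g) {r : ℕ} (hr : n = m * r) : cA (g : A) ≤ q ^ (d * r ^ 2) := by
  have h1 := h.cd.card_le
  have := M.six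
  have := M.two
  rw [M.cardA, ← pow_mul] at h1
  exact le_of_pow (by omega) (pow_ne_zero 2 (by rintro rfl; omega)) h1 (le_of_eq (by rw [hr]; ring))

theorem cI_le (h : GE F 𝓑 X m N d g) {r : ℕ} (hr : n = m * r) : cI F g ^ 2 ≤ q ^ (d * r ^ 2 + n) := by
  rw [pow_add]
  exact (M.gb g (F.comm_le_Iso h.i0)).trans (Nat.mul_le_mul_right _ (M.cA_le h hr))

/-- the Cayley count -/
theorem cay (h : GE F 𝓑 X m N d g) {r : ℕ} (hr : n = m * r) {u s : A} {f μ j a κ : ℕ} (β : ℕ) (hs : s * star s = 1)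
    (E : SE s (q ^ f) μ) (hM : 3 ≤ μ) (hsg : s * g = g * s) (hus : u * s = s * u)
    (k : ∀ x : A, x * g = g * x → x * u = u * x ∧ x * s = s * x) (hu : u ^ q ^ j = 1) (kr : Kr B a κ u)
    (hβ : n * κ < f * (β + 1) * a) : (μ - β) ^ 2 * cI F g ^ 2 ≤ μ ^ 2 * q ^ (d * r ^ 2) := by
  have h1 := kr.card_le (W := W)
  rw [M.cardW, ← pow_mul] at h1
  have h2 := cayley M.unit hs E hM h.uni hsg hus k (M.nil u j hu) (β := β) (lt_of_pow_lt_pow_left₀ a (Nat.zero_le _)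
    (h1.trans_lt (by rw [← pow_mul, ← pow_mul, ← mul_assoc]; exact Nat.pow_lt_pow_right M.two hβ)))
  rw [← mul_pow]
  exact (Nat.pow_le_pow_left (Nat.mul_le_mul_left _ (cI_le_cU F g)) 2).trans (h2.trans (Nat.mul_le_mul_left _ (M.cA_le h hr)))

end Amb

section pair

omit [StarRing A]

theorem ru_mu {E : Fin m → Fin m → A} (h : MU0 E) (k : ∀ i j, E i j ∈ B) (o : Fin m) : Ru B m (E o o) := by
  refine ⟨Fin m, inferInstance, fun i => E i o, fun i => E o i, Fintype.card_fin m, k _ _, fun i => k _ _,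
    fun i => k _ _, h.mul_eq _ _ _, fun i => by rw [h.mul_eq, h.mul_eq], fun i j hij => by rw [h.mul_eq, h.mul, if_neg hij], ?_⟩
  simp only [h.mul_eq, h.sum]

/-- Jordan blocks of sizes three and one -/
theorem four {G : Fin 4 → Fin 4 → A} (h : MU0 G) (k : ∀ i j, G i j ∈ X) (h2 : IsUnit (2 : A)) {g : A}
    (hg : g = 1 + (G 0 1 + G 0 2 + G 0 3 + G 1 3 + G 2 3)) : Cd X 4 6 g ∧ Kr X 4 2 g := by
  have h1 : G 0 0 + G 1 1 + G 2 2 + G 3 3 = 1 := by rw [← h.sum, Fin.sum_univ_four]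
  have h3 : (G 3 1 + G 2 0 - G 2 1) * (g - 1) + (G 0 3 * G 3 0 + (G 1 3 - G 2 3) * G 3 1) = 1 := by
    rw [hg, add_sub_cancel_left, ← h1]
    simp [add_mul, sub_mul, mul_add, h.mul]
    abel
  refine ⟨⟨_, ru_mu h k 3, Fin 4 ⊕ Fin 2, inferInstance, fun l => (AddMonoidHom.mulLeft (G 3 (l.elim id (Fin.castLE (by norm_num))))).comp
    (AddMonoidHom.mulRight (l.elim (fun _ => G 3 3) fun _ => G 1 3 - G 2 3)), by simp, fun l x => ?_, fun l x c hc => ?_,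
    fun x hx h0 => ?_⟩, _, ru_mu h k 3, Fin 2, inferInstance, ![G 3 0, G 3 1], ![G 0 3, G 1 3 - G 2 3], _, by simp,
    fun l => by fin_cases l <;> exact h.mul_eq _ _ _, by rw [Fin.sum_univ_two]; exact h3⟩
  · change G 3 3 * (G 3 _ * (x * _)) * G 3 3 = G 3 _ * (x * _)
    rw [← mul_assoc, h.mul_eq, mul_assoc, mul_assoc]
    rcases l with l | l <;> simp [sub_mul, h.mul]
  · change G 3 _ * (c * x * _) = c * (G 3 _ * (x * _)) ∧ G 3 _ * (x * c * _) = G 3 _ * (x * _) * c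
    refine ⟨by rw [mul_assoc, ← mul_assoc, hc _ (k _ _), mul_assoc], ?_⟩
    rw [mul_assoc, mul_assoc, mul_assoc, hc]
    rcases l with l | l
    · exact k _ _
    · exact sub_mem (k _ _) (k _ _)
  · have a0 : ∀ l, G 3 l * (x * G 3 3) = 0 := fun l => h0 (Sum.inl l)
    have a1 : x * G 3 3 = 0 := by
      rw [← one_mul (x * _), ← h.sum, Finset.sum_mul]
      exact Finset.sum_eq_zero fun l _ => by rw [← h.mul_eq l 3 l, mul_assoc, a0, mul_zero]
    have a2 : x * (g - 1) = (g - 1) * x := by rw [mul_sub, sub_mul, hx, mul_one, one_mul]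
    have a3 : x * (G 1 3 - G 2 3) = 0 := by
      have b1 : G 3 0 * (x * (G 1 3 - G 2 3)) = 0 := h0 (Sum.inr 0)
      have b2 : G 3 1 * (x * (G 1 3 - G 2 3)) = 0 := h0 (Sum.inr 1)
      have b3 : (g - 1) * (G 1 3 - G 2 3) = 0 := by
        rw [hg, add_sub_cancel_left]
        simp [add_mul, mul_sub, h.mul]
      rw [← one_mul (x * _), ← h3, add_mul, add_mul, mul_assoc, mul_assoc (G 0 3), mul_assoc _ (G 3 1), b1, b2,
        ← mul_assoc (g - 1), ← a2, mul_assoc x, b3]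
      simp
    have a4 : x * (G 0 3 + G 1 3 + G 2 3) = 0 := by
      have b3 : (g - 1) * G 3 3 = G 0 3 + G 1 3 + G 2 3 := by
        rw [hg, add_sub_cancel_left]
        simp [add_mul, h.mul]
      rw [← b3, ← mul_assoc, a2, mul_assoc, a1, mul_zero]
    have t2 : ∀ y : A, y + y = 0 → y = 0 := fun y hy => h2.mul_left_cancel (by rw [two_mul, hy, mul_zero])
    have a5 : x * G 0 3 = 0 := t2 _ (by
      have b3 : (g - 1) * (G 0 3 + G 1 3 + G 2 3) = G 0 3 + G 0 3 := by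
        rw [hg, add_sub_cancel_left]
        simp [add_mul, mul_add, h.mul]
      rw [← mul_add, ← b3, ← mul_assoc, a2, mul_assoc, a4, mul_zero])
    rw [mul_add, mul_add, a5, zero_add] at a4
    rw [mul_sub, sub_eq_zero] at a3
    have a6 : x * G 2 3 = 0 := t2 _ (by rwa [a3] at a4)
    rw [← mul_one x, ← h1, ← h.mul_eq 0 3 0, ← h.mul_eq 1 3 1, ← h.mul_eq 2 3 2]
    simp only [mul_add, ← mul_assoc, a1, a3, a5, a6, zero_mul, add_zero]

/-- the product of two transvections -/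
theorem pair {E E' : Fin 2 → Fin 2 → A} (h : MU0 E) (h' : MU0 E') (k : ∀ i j, E i j ∈ B) (k' : ∀ i j, E' i j ∈ B')
    (hc : Cm B B') (h2 : IsUnit (2 : A)) :
    Cd (B ⊔ B') 4 6 ((1 + E 0 1) * (1 + E' 0 1)) ∧ Kr (B ⊔ B') 4 2 ((1 + E 0 1) * (1 + E' 0 1)) := by
  have h1 : E 0 0 + E 1 1 = 1 := by rw [← h.sum, Fin.sum_univ_two]
  have h1' : E' 0 0 + E' 1 1 = 1 := by rw [← h'.sum, Fin.sum_univ_two]
  refine four (G := fun i j => E (![0, 0, 1, 1] i) (![0, 0, 1, 1] j) * E' (![0, 1, 0, 1] i) (![0, 1, 0, 1] j))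
    ⟨fun i j a b => ?_, ?_⟩ (fun i j => mul_mem (le_sup_left (a := B) (k _ _)) (le_sup_right (b := B') (k' _ _))) h2 ?_
  · rw [mul_assoc, ← mul_assoc (E' _ _), ← hc _ (k _ _) _ (k' _ _), mul_assoc, ← mul_assoc, h.mul, h'.mul]
    fin_cases j <;> fin_cases a <;> simp
  · rw [Fin.sum_univ_four, ← mul_one (1 : A)]
    conv_rhs => rw [← h1]; arg 2; rw [h1, ← h1']
    simp [add_mul, mul_add]
    abel
  · have e1 : E 0 1 = E 0 1 * (E' 0 0 + E' 1 1) := by rw [h1', mul_one]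
    have e2 : E' 0 1 = (E 0 0 + E 1 1) * E' 0 1 := by rw [h1, one_mul]
    rw [add_mul, mul_add, mul_add, one_mul, one_mul, mul_one]
    conv_lhs => arg 1; rw [e2]
    conv_lhs => arg 2; arg 1; rw [e1]
    simp [add_mul, mul_add]
    abel

end pair

end Cfsg.Agent.N2C.TenSO
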