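import Cfsg.Agent.N2.Cl.TenSO.Cay
import Cfsg.Agent.N2.Cl.Ten.Alg
import Cfsg.Agent.N2.Cl.SzG.Main

/-!
# N2 (S3519), tensor decompositions: models of the factors and the order of the stabiliser (helper92)

`MD` a model of a factor, `exists_md`; `PB B x` : the projective conformal group of `B` has order at most `x`;
`TC.card_le'`, `TC.card_le_all` the order of the stabiliser; `TC.cen_of` characteristic commutative subrings.
-/

set_option autoImplicit false
set_option linter.unusedSectionVars false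
set_option maxHeartbeats 400000

namespace Cfsg.Agent.N2C.TenSO

open Cfsg.Agent.DS.Cl Cfsg.Agent.DS.Cl.Fwd Cfsg.Agent.SB.Cl Module
open Cfsg.Agent.TH.Cl.Ten (Cz)
open Cfsg.Agent.N2C.Cyc
open Cfsg.Agent.N2C.Size (SI fm exists_kind UC card_conf_le)
open scoped Pointwise

section pc

variable {K V : Type} [Field K] [Fintype K] [AddCommGroup V] [Module K V] [Finite V] [Nontrivial V] {h : HF K V}
  {F : FR h.EB}

theorem pc_mul (hL : F.L = Lmax _) : PC h.EB * Nat.card (UC h.EB) ≤ 2 * Nat.card F.Iso := by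
  have e : SAut h.EB = F.Aut := le_antisymm (fun γ hγ => ⟨hγ, by
    rw [hL]
    change star (γ F.l - F.l) = -(γ F.l - F.l)
    rw [star_sub, ← hγ, eq_sub_of_add_eq' F.l_add, map_sub, map_one]
    abel⟩) F.Aut_le_SAut
  rw [PC, e]
  exact card_conf_le h.ss F

theorem pc_le (hL : F.L = Lmax _) : PC h.EB ≤ 2 * Nat.card F.Iso :=
  (Nat.le_mul_of_pos_right _ Nat.card_pos).trans (pc_mul hL)

theorem pc_le_odd (hL : F.L = Lmax _) (h2 : (2 : K) ≠ 0) : PC h.EB ≤ Nat.card F.Iso := by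
  have h1 : 2 ≤ Nat.card (UC h.EB) := by
    refine Finite.one_lt_card_iff_nontrivial.2 ⟨⟨-1, by simp, by simp⟩, 1, fun e => h2 ?_⟩
    obtain ⟨v, hv⟩ := exists_ne (0 : V)
    have h1 : -v = v := congrArg (fun u : UC h.EB => h.ap (u : h.EBˣ) v) e
    exact (smul_eq_zero_iff_left hv).1 (by rw [two_smul, add_eq_zero_iff_neg_eq, h1])
  have h3 := (Nat.mul_le_mul_left _ h1).trans (pc_mul hL)
  omega

omit [Nontrivial V] in
theorem two_ne_iff (K : Type) [Field K] [Fintype K] : (2 : K) ≠ 0 ↔ Odd (Fintype.card K) := by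
  rw [Nat.odd_iff, ← Nat.mod_two_not_eq_zero, ← FiniteField.even_card_iff_char_two]
  refine not_congr ⟨fun k => ?_, fun k => ?_⟩
  · exact ((Nat.dvd_prime Nat.prime_two).1 ((ringChar.spec K 2).1 (by exact_mod_cast k))).resolve_left CharP.ringChar_ne_one
  · exact_mod_cast (ringChar.spec K 2).2 (by rw [k])

end pc

variable {A : Type} [Ring A] [StarRing A] [Finite A] {B B' : Subring A} {q a x : ℕ}

/-- the projective conformal group of `B` has order at most `x` -/
def PB (B : Subring A) (x : ℕ) : Prop := ∃ (R : Type) (_ : Ring R) (_ : StarRing R) (_ : FM B R), PC R ≤ x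

theorem PB.mono (h : PB B x) {y : ℕ} (hy : x ≤ y) : PB B y := by
  obtain ⟨R, _, _, f, h⟩ := h
  exact ⟨R, _, _, f, h.trans hy⟩

/-- a model of a factor -/
structure MD (B : Subring A) (q a : ℕ) {K : Type} [Field K] [Fintype K] (h : HF K (Fin a → K)) (F : FR h.EB) : Prop where
  pos : 0 < a
  card : Fintype.card K = q
  L : F.L = Lmax _
  kd : IsSp h F ∨ ∃ Q, IsO h F Q ∧ (2 : K) ≠ 0

theorem exists_md {hs : ∀ x ∈ B, star x ∈ B} (ss : SS (Blk.ofSubring B hs).T) (hZ : Subring.center A ≤ B)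
    (hc : ∀ z ∈ B, (∀ y ∈ B, y * z = z * y) → z ∈ Subring.center A) {l : A} (hl : l ∈ B) (hl' : l + star l = 1)
    (hst : ∀ z ∈ Subring.center A, star z = z) (hq : Nat.card (Subring.center A) = q) :
    ∃ (K : Type) (_ : Field K) (_ : Fintype K) (a : ℕ) (h : HF K (Fin a → K)) (F : FR h.EB) (_ : FM B h.EB), MD B q a h F := by
  let T := Blk.ofSubring B hs
  have c1 : ∀ z ∈ Subring.center T.T, T.val z ∈ Subring.center A := fun z hz => hc _ (T.val_mem z) (T.mem_center_iff.1 hz)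
  have c2 : ∀ z ∈ Subring.center T.T, star z = z := fun z hz => T.val_inj (hst _ (c1 z hz))
  rcases exists_kind ss ⟨T.mk' l hl, Lmax _, T.val_inj hl', Or.inr rfl⟩ with ⟨K, _, _, n, e, hn, he⟩ | ⟨K, _, _, n, h, e, he, hn, k⟩
  · have : Nonempty (Fin n) := ⟨⟨0, hn⟩⟩
    have h1 := congrArg e (c2 _ ((Size.mem_center_map e.symm).2 SB.Fld.luL.c_cen))
    rw [he, e.apply_symm_apply] at h1
    exact absurd (congrArg Prod.fst h1) (show ¬ (0 : Matrix (Fin n) (Fin n) K).transpose = 1 by simp)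
  have : Nonempty (Fin n) := ⟨⟨0, hn⟩⟩
  let ψ : h.EB →+* A :=
    { toFun := fun y => T.val (e.symm y)
      map_one' := congrArg T.val (map_one e.symm)
      map_mul' := fun x y => congrArg T.val (map_mul e.symm x y)
      map_zero' := congrArg T.val (map_zero e.symm)
      map_add' := fun x y => congrArg T.val (map_add e.symm x y) }
  let f : FM B h.EB :=
    { ψ := ψ
      inj := T.val_inj.comp e.symm.injective
      mem := fun x => ⟨fun hx => ⟨e (T.mk' x hx), congrArg T.val (e.symm_apply_apply _)⟩, fun ⟨y, hy⟩ => hy ▸ T.val_mem _⟩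
      st := fun y => congrArg T.val (he.symm y)
      cen := fun y hy => c1 _ ((Size.mem_center_map e.symm).2 hy) }
  obtain ⟨v, hv⟩ := exists_ne (0 : Fin n → K)
  have hτ : ∀ c, h.τ c = c := fun c => by
    have h1 := f.inj ((f.st _).trans (hst _ (f.cen _ (h.smul_mem_center c))))
    rw [sc_star] at h1
    exact smul_left_injective K hv (congrArg (fun x => h.ap x v) h1)
  have hL := Size.fm_L_max he (F := ⟨T.mk' l hl, Lmax _, T.val_inj hl', Or.inr rfl⟩) rfl
  refine ⟨K, _, _, n, h, _, f, hn, ?_, hL, ?_⟩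
  · rw [← hq, ← Nat.card_eq_fintype_card]
    refine Nat.card_eq_of_bijective (fun c => ⟨ψ (h.eb (c • 1)), f.cen _ (h.smul_mem_center c)⟩) ⟨fun c d k => ?_, fun z => ?_⟩
    · exact smul_left_injective K hv (congrArg (fun x => h.ap x v) (f.inj (Subtype.mk.inj k)))
    · obtain ⟨y, hy⟩ := (f.mem _).1 (hZ z.2)
      obtain ⟨c, hc⟩ := SB.Tor.exists_sc h (z := y) (Subring.mem_center_iff.2 fun g => f.inj (by
        rw [map_mul, map_mul, hy, cen_comm z.2]))
      exact ⟨c, Subtype.ext ((congrArg ψ (h.ap_ext (a := h.eb (c • 1)) fun v => (hc v).symm)).trans hy)⟩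
  · rcases k with ⟨k, -⟩ | k | ⟨Q, k⟩
    · exact k.2.elim fun c hc => absurd (hτ c) hc
    · exact Or.inl k
    · by_cases h2 : (2 : K) = 0
      · exact Or.inl ⟨hτ, fun v => by rw [k.2.1, QuadraticMap.polar_self, two_smul, ← two_mul, h2, zero_mul], hL⟩
      · exact Or.inr ⟨Q, k, h2⟩

theorem choose_succ (a : ℕ) : (a + 1).choose 2 = a.choose 2 + a := by
  rw [Nat.choose_succ_succ' a 1, Nat.choose_one_right, add_comm]

theorem two_choose (a : ℕ) : 2 * a.choose 2 + a = a * a := by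
  induction a with
  | zero => rfl
  | succ a ih => rw [choose_succ]; nlinarith

namespace MD

variable {K : Type} [Field K] [Fintype K] {h : HF K (Fin a → K)} {F : FR h.EB} (m : MD B q a h F) (f : FM B h.EB)
include m

theorem nt : Nontrivial (Fin a → K) :=
  have : Nonempty (Fin a) := ⟨⟨0, m.pos⟩⟩
  inferInstance

theorem two : 2 ≤ q := m.card ▸ two_le_q K

include f

theorem pb_Sp (k : IsSp h F) : PB B (2 * q ^ (a + 1).choose 2) ∧ (Odd q → PB B (q ^ (a + 1).choose 2)) := by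
  have := m.nt
  have h1 := Size.iso_le_Sp k
  rw [Size.card_L_Sp k, finrank_fin_fun, m.card] at h1
  exact ⟨⟨_, _, _, f, (pc_le m.L).trans (Nat.mul_le_mul_left _ h1)⟩,
    fun h2 => ⟨_, _, _, f, (pc_le_odd m.L ((two_ne_iff K).2 (m.card ▸ h2))).trans h1⟩⟩

theorem pb_O {Q : QuadraticForm K (Fin a → K)} (k : IsO h F Q) (h2 : (2 : K) ≠ 0) (ha : a ≠ 2) : PB B (2 * q ^ a.choose 2) := by
  have := m.nt
  have h1 := Size.iso_le_O k (by rw [finrank_fin_fun]; exact m.pos) (by rwa [finrank_fin_fun])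
  rw [Size.card_L_O k, finrank_fin_fun, m.card] at h1
  exact ⟨_, _, _, f, (pc_le_odd m.L h2).trans h1⟩

/-- all kinds -/
theorem pb : PB B (2 * q ^ (a + 1).choose 2) ∧ (Odd q → PB B (q ^ (a + 1).choose 2)) ∧ (a ≤ 3 → PB B (2 * q ^ 3)) := by
  have hq := m.two
  have h0 := m.pos
  rcases m.kd with k | ⟨Q, k, h2⟩
  · obtain ⟨h1, h3⟩ := m.pb_Sp f k
    obtain ⟨j, hj, -⟩ := Size.card_Iso_Sp k
    rw [finrank_fin_fun] at hj
    refine ⟨h1, h3, fun h4 => ?_⟩
    obtain rfl : a = 2 := by omega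
    exact h1
  have h3 : PB B (q ^ (a + 1).choose 2) ∧ (a ≤ 3 → PB B (2 * q ^ 3)) := by
    by_cases ha : a = 2
    · have := m.nt
      have h1 := Size.iso_le_O2 k (by rwa [finrank_fin_fun])
      have h4 : PB B (q ^ 3) := ⟨_, _, _, f, ((pc_le_odd m.L h2).trans h1).trans (by
        rw [m.card]
        nlinarith [Nat.mul_le_mul hq hq])⟩
      exact ⟨by rwa [ha], fun _ => h4.mono (by omega)⟩
    · have h1 := m.pb_O f k h2 ha
      refine ⟨h1.mono ?_, fun h4 => h1.mono (Nat.mul_le_mul_left _ (Nat.pow_le_pow_right (by omega) ?_))⟩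
      · rw [choose_succ, pow_add, mul_comm]
        exact Nat.mul_le_mul_left _ (hq.trans (Nat.le_self_pow h0.ne' q))
      · exact (Nat.choose_le_choose 2 h4).trans (by decide)
  exact ⟨h3.1.mono (by omega), fun _ => h3.1, h3.2⟩

end MD

namespace TC

variable {F : FR A} {H : Subgroup (RingAut A)} {p : ℕ} {𝓑 : Set (Subring A)} (T : TC F H p 𝓑)
include T

theorem card_le' (hB : B ∈ 𝓑) {y : ℕ} (h : PB B x) (h' : PB (Cz B) y) : Nat.card ↥(H ⊓ F.S) ≤ 𝓑.ncard * (x * y) := by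
  obtain ⟨R, _, _, f, h⟩ := h
  obtain ⟨R', _, _, f', h'⟩ := h'
  exact (T.card_le hB f f').trans (Nat.mul_le_mul_left _ (Nat.mul_le_mul h h'))

theorem card_le_all (h : ∀ B ∈ 𝓑, PB B x) : Nat.card ↥(H ⊓ F.S) ≤ 𝓑.ncard ^ 𝓑.ncard * x ^ 𝓑.ncard := by
  have := finAut (A := A)
  have : Finite (Subring A) := Finite.of_injective _ SetLike.coe_injective
  have := Fintype.ofFinite 𝓑
  refine (SzG.card_step (U := H ⊓ F.S) (U' := H ⊓ F.S ⊓ ptStab (RingAut A) 𝓑) (Y := 𝓑 → 𝓑)
    (fun γ B => ⟨γ.1 • B.1, T.st _ γ.2.1 _ B.2⟩) fun γ δ e => ⟨(γ⁻¹ * δ).2, fun B hB => ?_⟩).trans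
    (Nat.mul_le_mul (by rw [Nat.card_fun, Nat.card_coe_set_eq]) ?_)
  · rw [mul_smul, ← Subtype.mk.inj (congrFun e ⟨B, hB⟩), inv_smul_smul]
  choose R i1 i2 f hf using fun B : 𝓑 => h B B.2
  have i3 : ∀ B, Finite ↥(SAut (R B) ⊓ Lin (R B)) := fun B =>
    have := (f B).fin
    have := finAut (A := R B)
    inferInstance
  choose a ha using fun (γ : ↥(H ⊓ F.S ⊓ ptStab (RingAut A) 𝓑)) (B : 𝓑) =>
    (f B).exists_res (T.c.le_SAut γ.2.1.1) (F.PI_le_Lin (F.S_le_PI γ.2.1.2)) (γ.2.2 B B.2)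
  refine (Nat.card_le_card_of_injective a fun γ δ e => Subtype.ext (RingEquiv.ext fun y => ?_)).trans ?_
  · refine T.d.t.ind (T := (γ.1 : A →+* A).eqLocus (δ.1 : A →+* A)) (fun B hB z hz => ?_) y
    obtain ⟨y, rfl⟩ := ((f ⟨B, hB⟩).mem z).1 hz
    exact (ha γ _ y).symm.trans ((congrArg (fun r => (f ⟨B, hB⟩).ψ ((r ⟨B, hB⟩).1 y)) e).trans (ha δ _ y))
  · rw [Nat.card_pi, ← Nat.card_coe_set_eq, Nat.card_eq_fintype_card, ← Finset.card_univ]
    exact Finset.prod_le_pow_card _ _ _ fun B _ => hf B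

/-- characteristic commutative subrings of the factors are central -/
theorem cen_of (Φ : A → Prop) (φ : A → A) (h1 : ∀ γ ∈ SAut A, ∀ x, Φ x → Φ (γ x)) (h2 : ∀ γ : RingAut A, ∀ x, γ (φ x) = φ (γ x))
    (h3 : ∀ (B : Subring A), ∀ x ∈ B, φ x ∈ B) (h4 : ∀ x, Φ x → Φ (star x) ∧ star (φ x) = φ (star x)) (hB : B ∈ 𝓑)
    (hc : ∀ x ∈ B, ∀ y ∈ B, Φ x → Φ y → φ x * φ y = φ y * φ x) {x : A} (hx : x ∈ B) (hs : Φ x) : φ x ∈ Subring.center A := by
  let X : Set A := {z | z ∈ Subring.center A ∨ ∃ B ∈ 𝓑,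
    (∀ x ∈ B, ∀ y ∈ B, Φ x → Φ y → φ x * φ y = φ y * φ x) ∧ ∃ x ∈ B, Φ x ∧ z = φ x}
  have k1 : ∀ x ∈ X, ∀ y ∈ X, x * y = y * x := by
    rintro x (hx | ⟨B₁, a1, a2, x, a3, a4, rfl⟩) y hy
    · exact (cen_comm hx y).symm
    rcases hy with hy | ⟨B₂, b1, -, y, b3, b4, rfl⟩
    · exact cen_comm hy _
    by_cases e : B₁ = B₂
    · exact a2 x a3 y (e ▸ b3) a4 b4
    · exact T.comm a1 b1 e _ (h3 _ _ a3) _ (h3 _ _ b3)
  refine T.irr.2 (Subring.closure X) ⟨fun z hz => Subring.subset_closure (Or.inl hz), fun z hz => ?_, fun y hy z hz => ?_⟩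
    (fun γ hγ z hz => ?_) (Subring.subset_closure (Or.inr ⟨B, hB, hc, x, hx, hs, rfl⟩))
  · induction hz using Subring.closure_induction with
    | mem z hz =>
      rcases hz with hz | ⟨B₁, a1, a2, x, a3, a4, rfl⟩
      · exact Subring.subset_closure (Or.inl (star_cen hz))
      · exact Subring.subset_closure (Or.inr ⟨B₁, a1, a2, _, T.d.t.star_mem _ a1 x a3, h4 x a4⟩)
    | zero => rw [star_zero]; exact zero_mem _
    | one => rw [star_one]; exact one_mem _
    | add a b _ _ ha hb => rw [star_add]; exact add_mem ha hb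
    | neg a _ ha => rw [star_neg]; exact neg_mem ha
    | mul a b _ _ ha hb => rw [star_mul]; exact mul_mem hb ha
  · have k2 : Subring.closure X ≤ Subring.centralizer X := Subring.closure_le.2 fun a ha b hb => k1 b hb a ha
    have k3 : Subring.closure X ≤ Subring.centralizer {y} := Subring.closure_le.2 fun a ha b hb => by
      rw [Set.mem_singleton_iff.1 hb]; exact (k2 hy a ha).symm
    exact k3 hz y rfl
  · have k2 : Subring.closure X ≤ (Subring.closure X).comap (γ : A →+* A) := Subring.closure_le.2 (by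
      rintro a (ha | ⟨B₁, a1, a2, x, a3, a4, rfl⟩)
      · exact Subring.subset_closure (Or.inl (map_cen γ ha))
      · refine Subring.subset_closure (Or.inr ⟨γ • B₁, T.st γ hγ B₁ a1, fun x hx y hy x1 y1 => ?_, γ x,
          apply_mem_smul.2 a3, h1 γ (T.c.le_SAut hγ) x a4, h2 γ x⟩)
        have k3 := T.c.le_SAut (inv_mem hγ)
        apply (γ⁻¹).injective
        rw [map_mul, map_mul, h2, h2]
        exact a2 _ (mem_smul_subring.1 hx) _ (mem_smul_subring.1 hy) (h1 _ k3 _ x1) (h1 _ k3 _ y1))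
    exact k2 hz

end TC

end Cfsg.Agent.N2C.TenSO
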